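import Cfsg.Agent.Lib.JankoFourFive.M22Five
import Cfsg.Agent.Lib.JankoFour.Setting

/-!
# Tools for the elements of order seven (owner: helper25)

Lifting commuting elements over a kernel of coprime order, counting involutions modulo a central element of odd
order, two facts on `S5`, and the automorphisms of the Mathieu group of degree 22 commuting with an element
of order seven.
-/

set_option autoImplicit false

namespace CfsgLib.JankoFour.Seven

open Cfsg
open CfsgLib.JankoFour.M22 (Grp)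

/-- An element commuting with the image of `r` lifts to one commuting with `r`. -/
theorem exists_commute_lift {M Q : Type*} [Group M] [Group Q] [Finite M] (f : M →* Q) {q : ℕ} [Fact q.Prime]
    {r : M} (hr : orderOf r = q) (hk : ¬ q ∣ Nat.card f.ker) (g : M) (hc : Commute (f g) (f r)) :
    ∃ g', f g' = f g ∧ Commute g' r := by
  classical
  have hq := (Fact.out : q.Prime)
  have hfr : f r ≠ 1 := fun e => hk (by
    have := orderOf_dvd_natCard (⟨r, e⟩ : f.ker)
    rwa [← Subgroup.orderOf_coe, hr] at this)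
  have hfo : orderOf (f r) = q := orderOf_eq_prime (by rw [← map_pow, ← hr, pow_orderOf_eq_one, map_one]) hfr
  set K : Subgroup M := (Subgroup.zpowers (f r)).comap f with hK
  have hrK : r ∈ K := Subgroup.mem_zpowers (f r)
  have hgK : g * r * g⁻¹ ∈ K := by
    show f (g * r * g⁻¹) ∈ Subgroup.zpowers (f r)
    rw [map_mul, map_mul, map_inv, hc.eq, mul_inv_cancel_right]
    exact Subgroup.mem_zpowers _
  have hsq : ¬ q * q ∣ Nat.card K := by
    let φ : K →* Q := f.comp K.subtype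
    have h := φ.ker.card_mul_index
    rw [Subgroup.index_ker] at h
    have ha : Nat.card φ.ker ∣ Nat.card f.ker := Subgroup.card_dvd_of_injective
      ((K.subtype.comp φ.ker.subtype).codRestrict f.ker fun x => MonoidHom.mem_ker.1 x.2)
      fun a b e => Subtype.ext (Subtype.ext (congrArg (fun y : f.ker => (y : M)) e :))
    have hb : Nat.card φ.range ∣ q := by
      rw [← hfo, ← Nat.card_zpowers]
      exact Subgroup.card_dvd_of_le (by rintro _ ⟨x, rfl⟩; exact x.2)
    intro hd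
    rw [← h] at hd
    have := hd.trans (mul_dvd_mul ha hb)
    exact hk (Nat.dvd_of_mul_dvd_mul_right hq.pos this)
  have syl : ∀ {s : K}, orderOf (s : M) = q → ∃ X : Sylow q K, (X : Subgroup K) = Subgroup.zpowers s := by
    intro s hs
    have hc' : Nat.card (Subgroup.zpowers s) = q := by rw [Nat.card_zpowers, ← Subgroup.orderOf_coe, hs]
    have hidx : ¬ q ∣ (Subgroup.zpowers s).index := fun hd => hsq (by
      rw [← (Subgroup.zpowers s).card_mul_index, hc']
      exact mul_dvd_mul_left _ hd)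
    exact ⟨(IsPGroup.of_card (n := 1) (by rw [hc', pow_one])).toSylow hidx, IsPGroup.toSylow_coe _ _⟩
  obtain ⟨X, hX⟩ := syl (s := ⟨g * r * g⁻¹, hgK⟩)
    (by show orderOf (MulAut.conj g r) = q; rw [MulEquiv.orderOf_eq, hr])
  obtain ⟨Y, hY⟩ := syl (s := ⟨r, hrK⟩) hr
  obtain ⟨k, hk'⟩ := MulAction.exists_smul_eq K X Y
  have hm : k * ⟨g * r * g⁻¹, hgK⟩ * k⁻¹ ∈ (Y : Subgroup K) := by
    rw [← hk']
    exact Subgroup.smul_mem_pointwise_smul _ (MulAut.conj k) (X : Subgroup K) (hX ▸ Subgroup.mem_zpowers _)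
  rw [hY] at hm
  obtain ⟨n, hn⟩ := hm
  have hn' : r ^ n = (k : M) * (g * r * g⁻¹) * (k : M)⁻¹ := congrArg Subtype.val hn
  obtain ⟨m, hm⟩ := k.2
  have hm' : f r ^ m = f k := hm
  have e1 : f (r ^ n) = f r := by
    rw [hn', map_mul, map_mul, map_mul, map_mul, map_inv, map_inv, hc.eq, mul_inv_cancel_right, ← hm',
      ((Commute.refl (f r)).zpow_left m).eq, mul_inv_cancel_right]
  have e2 : r ^ n = r := by
    have h1 : f r ^ (n - 1) = 1 := by rw [zpow_sub_one, ← map_zpow, e1, mul_inv_cancel]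
    have h2 : r ^ (n - 1) = 1 := orderOf_dvd_iff_zpow_eq_one.1 (by
      rw [hr, ← hfo]; exact orderOf_dvd_iff_zpow_eq_one.2 h1)
    rwa [zpow_sub_one, mul_inv_eq_one] at h2
  refine ⟨r ^ (-m) * ((k : M) * g), ?_, ?_⟩
  · rw [map_mul, map_mul, map_zpow, ← hm', zpow_neg, inv_mul_cancel_left]
  · refine ((Commute.refl r).zpow_left _).mul_left (mul_inv_eq_iff_eq_mul.1 ?_)
    rw [show (k : M) * g * r * ((k : M) * g)⁻¹ = (k : M) * (g * r * g⁻¹) * (k : M)⁻¹ by group, ← hn', e2]

theorem exists_involution_pow {H : Type*} [Group H] [Finite H] {g : H} (he : 2 ∣ orderOf g) :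
    ∃ n : ℕ, orderOf (g ^ n) = 2 :=
  ⟨orderOf g / 2, orderOf_pow_orderOf_div (orderOf_pos g).ne' he⟩

/-- Involutions commuting with an element of odd prime order have distinct cosets. -/
theorem mul_ncard_le {G : Type*} [Group G] [Finite G] {x : G} {q : ℕ} (hq : q % 2 = 1) (hx : orderOf x = q)
    {s T : Set G} (h2 : ∀ u ∈ s, u * u = 1 ∧ Commute u x) (hT : ∀ u ∈ s, ∀ i : ℕ, u * x ^ i ∈ T) :
    q * s.ncard ≤ T.ncard := by
  rw [← Nat.card_coe_set_eq, ← Nat.card_coe_set_eq,
    show q * Nat.card s = Nat.card (Fin q × s) by rw [Nat.card_prod, Nat.card_fin]]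
  refine Nat.card_le_card_of_injective (fun v => (⟨(v.2 : G) * x ^ (v.1 : ℕ), hT _ v.2.2 _⟩ : T)) ?_
  rintro ⟨i, u, hu⟩ ⟨j, w, hw⟩ e
  have e' : u * x ^ (i : ℕ) = w * x ^ (j : ℕ) := congrArg Subtype.val e
  have hsq : x ^ (2 * (i : ℕ)) = x ^ (2 * (j : ℕ)) := by
    have := congrArg (fun y => y * y) e'
    rw [((h2 u hu).2.pow_right (i : ℕ)).symm.mul_mul_mul_comm, (h2 u hu).1, one_mul,
      ((h2 w hw).2.pow_right (j : ℕ)).symm.mul_mul_mul_comm, (h2 w hw).1, one_mul] at this
    rw [two_mul, two_mul, pow_add, pow_add]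
    exact this
  have hij : (i : ℕ) = j := by
    rw [pow_eq_pow_iff_modEq, hx] at hsq
    have hcop : Nat.gcd q 2 = 1 := by rw [Nat.gcd_comm, Nat.gcd_rec, hq]; simp
    have h := Nat.ModEq.cancel_left_of_coprime hcop hsq
    rwa [Nat.ModEq, Nat.mod_eq_of_lt i.2, Nat.mod_eq_of_lt j.2] at h
  rw [hij] at e'
  exact Prod.ext (Fin.ext hij) (Subtype.ext (mul_right_cancel e'))

/-! ### the symmetric group of degree five -/

def s3 : Equiv.Perm (Fin 5) := Equiv.swap 0 1 * Equiv.swap 1 2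

def s2 : Equiv.Perm (Fin 5) := Equiv.swap 3 4

theorem s_facts : s3 ^ 3 = 1 ∧ s3 ≠ 1 ∧ s2 ^ 2 = 1 ∧ s2 ≠ 1 ∧ s2 * s3 = s3 * s2 := by decide +kernel

theorem transposition_of_card : ∀ σ : Equiv.Perm (Fin 5), σ * σ = 1 →
    (σ ≠ 1 ∧ (Finset.univ.filter fun c : Equiv.Perm (Fin 5) => c * σ = σ * c).card ∣ 12) →
      ∃ c : Equiv.Perm (Fin 5), c * σ * c⁻¹ = s2 := by decide +kernel

/-! ### the Mathieu group of degree 22 -/

theorem no_seven_three {a b : Grp} (ha : orderOf a = 7) (hb : orderOf b = 3) (hc : Commute b a) : False := by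
  have := Subgroup.card_dvd_of_le (Subgroup.zpowers_le.2 (M22.centralizer_five_seven (Or.inr rfl) ha hc))
  rw [Nat.card_zpowers, Nat.card_zpowers, ha, hb] at this
  norm_num at this

theorem odd_mem_range {A : Type*} [Group A] (R : Subgroup A) (hR : R.index = 2) {a : A} {k : ℕ}
    (h : a ^ (2 * k + 1) = 1) : a ∈ R := by
  have h2 : a ^ 2 ∈ R := by rw [pow_two]; exact Subgroup.mul_self_mem_of_index_two hR a
  have : a = (a ^ 2) ^ (k + 1) := by rw [← pow_mul, show 2 * (k + 1) = 2 * k + 1 + 1 by ring, pow_succ, h, one_mul]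
  rw [this]; exact pow_mem h2 _

theorem aut_no_seven_three {a b : MulAut Grp} (ha : orderOf a = 7) (hb : orderOf b = 3) (hc : Commute b a) :
    False := by
  obtain ⟨g, hg⟩ := odd_mem_range _ index_conj_range (k := 3) (show a ^ (2 * 3 + 1) = 1 by rw [show 2 * 3 + 1 = orderOf a by rw [ha], pow_orderOf_eq_one])
  obtain ⟨h, hh⟩ := odd_mem_range _ index_conj_range (k := 1) (show b ^ (2 * 1 + 1) = 1 by rw [show 2 * 1 + 1 = orderOf b by rw [hb], pow_orderOf_eq_one])
  have e : ∀ y : Grp, orderOf (MulAut.conj y) = orderOf y := fun y =>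
    orderOf_injective _ conj_injective y
  refine no_seven_three (a := g) (b := h) (by rw [← e, hg, ha]) (by rw [← e, hh, hb]) (conj_injective ?_)
  rw [map_mul, map_mul, hg, hh, hc.eq]

theorem aut_centralizer_seven {a : MulAut Grp} (ha : orderOf a = 7) :
    Nat.card (Subgroup.centralizer ({a} : Set (MulAut Grp))) ≤ 14 := by
  classical
  obtain ⟨g, hg⟩ := odd_mem_range _ index_conj_range (k := 3) (show a ^ (2 * 3 + 1) = 1 by rw [show 2 * 3 + 1 = orderOf a by rw [ha], pow_orderOf_eq_one])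
  set R := (MulAut.conj : Grp →* MulAut Grp).range
  set K := Subgroup.centralizer ({a} : Set (MulAut Grp))
  have : R.Normal := Subgroup.normal_of_index_eq_two index_conj_range
  have h := (R.subgroupOf K).card_mul_index
  have h7 : Nat.card (R.subgroupOf K) ≤ 7 := by
    rw [← ha, ← Nat.card_zpowers]
    refine Nat.card_le_card_of_injective (fun u => (⟨((u : K) : MulAut Grp), ?_⟩ : Subgroup.zpowers a))
      fun u v e => Subtype.ext (Subtype.ext (congrArg (fun y : Subgroup.zpowers a => (y : MulAut Grp)) e :))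
    obtain ⟨y, hy⟩ := u.2
    have hc : Commute y g := conj_injective (by
      rw [map_mul, map_mul, hg]
      exact (show MulAut.conj y * a = a * MulAut.conj y from
        (hy : MulAut.conj y = _) ▸ Subgroup.mem_centralizer_singleton_iff.1 (u : K).2))
    obtain ⟨n, hn⟩ := M22.centralizer_five_seven (Or.inr rfl)
      (show orderOf g = 7 by rw [← orderOf_injective _ conj_injective g, hg, ha]) hc
    refine ⟨n, ?_⟩
    show a ^ n = ((u : K) : MulAut Grp)
    rw [← hg, ← map_zpow, show g ^ n = y from hn]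
    exact hy
  have h2 : (R.subgroupOf K).index ≤ 2 := by
    refine Nat.le_of_dvd (by norm_num) ?_
    have := Subgroup.relIndex_dvd_index_of_normal R K
    rwa [index_conj_range] at this
  rw [← h]
  exact (Nat.mul_le_mul h7 h2).trans (by norm_num)

/-- Elements of order seven are not inverted. -/
theorem not_inverted {y g : Grp} (hy : orderOf y = 7) : g * y * g⁻¹ ≠ y⁻¹ := by
  intro he
  obtain ⟨y0, g0, h0, hg0, -, hN⟩ := M22.exists_z7
  obtain ⟨h, n, hn⟩ := M22.zpowers_conj (Or.inr rfl) h0 hy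
  have hn' : y0 ^ n = h * y * h⁻¹ := hn
  set v := h * g * h⁻¹ with hv
  have hvy : v * y0 ^ n * v⁻¹ = (y0 ^ n)⁻¹ := by
    rw [hn', hv, show h * g * h⁻¹ * (h * y * h⁻¹) * (h * g * h⁻¹)⁻¹ = h * (g * y * g⁻¹) * h⁻¹ by group, he]
    group
  have hyn : orderOf (y0 ^ n) = 7 := by
    rw [hn', show h * y * h⁻¹ = MulAut.conj h y from rfl, MulEquiv.orderOf_eq, hy]
  have hz : Subgroup.zpowers (y0 ^ n) = Subgroup.zpowers y0 :=
    Subgroup.eq_of_le_of_card_ge (Subgroup.zpowers_le.2 (zpow_mem (Subgroup.mem_zpowers _) _))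
      (by rw [Nat.card_zpowers, Nat.card_zpowers, hyn, h0])
  have hvN : v ∈ Subgroup.normalizer (Subgroup.zpowers y0 : Set Grp) := by
    rw [← hz, CfsgLib.Core.mem_normalizer_iff_conj_smul_eq, CfsgLib.Core.conj_smul_eq_map,
      MonoidHom.map_zpowers, ← Subgroup.zpowers_inv (g := y0 ^ n)]
    exact congrArg Subgroup.zpowers (by simpa using hvy)
  have h21 : v ^ 21 = 1 := by
    have := congrArg Subtype.val (pow_card_eq_one' (x := (⟨v, hvN⟩ : Subgroup.normalizer (Subgroup.zpowers y0 : Set Grp))))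
    rwa [hN] at this
  have h2 : v * v * y0 ^ n * (v * v)⁻¹ = y0 ^ n := by
    rw [show v * v * y0 ^ n * (v * v)⁻¹ = v * (v * y0 ^ n * v⁻¹) * v⁻¹ by group, hvy, ← conj_inv, hvy, inv_inv]
  have hc : Commute v (y0 ^ n) := by
    have h22 : v = (v * v) ^ 11 := by rw [← pow_two, ← pow_mul, show 2 * 11 = 21 + 1 from rfl, pow_succ, h21, one_mul]
    rw [h22]
    have h3 : Commute (v * v) (y0 ^ n) := mul_inv_eq_iff_eq_mul.1 h2
    exact h3.pow_left _
  rw [hc.eq, mul_inv_cancel_right, eq_inv_iff_mul_eq_one] at hvy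
  have h7 := orderOf_dvd_of_pow_eq_one ((pow_two (y0 ^ n)).trans hvy)
  rw [hyn] at h7
  norm_num at h7

/-- Every element of order seven is conjugate to its square. -/
theorem exists_square {y : Grp} (hy : orderOf y = 7) : ∃ g : Grp, g * y * g⁻¹ = y ^ 2 := by
  obtain ⟨y0, g0, h0, hg0, -, -⟩ := M22.exists_z7
  obtain ⟨h, n, hn⟩ := M22.zpowers_conj (Or.inr rfl) h0 hy
  have hn' : y0 ^ n = h * y * h⁻¹ := hn
  refine ⟨h⁻¹ * g0 * h, ?_⟩
  have e : g0 * y0 ^ n * g0⁻¹ = (y0 ^ n) ^ 2 := by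
    rw [← conj_zpow, hg0, ← zpow_natCast (y0 ^ n) 2, ← zpow_mul, mul_comm, zpow_mul, zpow_natCast]
  calc h⁻¹ * g0 * h * y * (h⁻¹ * g0 * h)⁻¹ = h⁻¹ * (g0 * (h * y * h⁻¹) * g0⁻¹) * h := by group
    _ = h⁻¹ * (h * y * h⁻¹) ^ 2 * h := by rw [← hn', e]
    _ = y ^ 2 := by rw [conj_pow]; group

end CfsgLib.JankoFour.Seven
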