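import Cfsg.Agent.Lib.JankoFourFive.Local
import Cfsg.Agent.Lib.JankoFourHexad.Orbits
import Cfsg.Agent.Lib.JankoFourSevenLocal.Checks
import Cfsg.Agent.Lib.JankoFourSevenLocal.Tools

/-!
# An element of order seven in `C(z)` (owner: helper25)

It fixes only `⟨z⟩` in `E`; its centralizer in `C(z)` has order at most 84 and at most six involutions besides
`z`; if there is one, it is not inverted in `C(z)`; it is conjugate to its square there.
-/

set_option autoImplicit false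
set_option linter.unusedSectionVars false

namespace CfsgLib.JankoFour

open Cfsg CfsgLib.ThreeTrans
open CfsgLib.JankoFourHexad
open CfsgLib.Sporadic (forallLt_elim)

variable {G : Type*} [Group G] [Finite G]

namespace HexBase

variable {S : Setting G} (B : HexBase S)

theorem actsQ_pow {t : G} (ht : Commute t S.z) {f : ℕ → ℕ} (h : B.ActsQ t f) :
    ∀ k, B.ActsQ (t ^ k) (f^[k]) := by
  intro k
  induction k with
  | zero => exact fun n hn => ⟨hn, by simp⟩
  | succ k ih =>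
    intro n hn
    rw [pow_succ', Function.iterate_succ_apply']
    exact B.actsQ_comp ht ih h n hn

include B in
theorem exists_seven_free : ∃ y : G, orderOf y = 7 ∧ Commute y S.z ∧
    ∀ e ∈ S.E, Commute e y → e ∈ Subgroup.zpowers S.z := by
  classical
  have : Nonempty (Frame S) := ⟨B.X.F⟩
  obtain ⟨t, htC, ht⟩ := B.exists_word Seven.sevenWord Seven.sevenWord_lt
  have htz : Commute t S.z := Frame.commute_z (S := S) htC
  have ht' : B.ActsQ t Seven.tabAct := fun n hn => by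
    have e : Seven.tabAct n = qWord Seven.sevenWord n :=
      (Nat.eq_of_beq_eq_true (forallLt_elim Seven.table_check hn)).symm
    rw [e]; exact ht n hn
  have hp := B.actsQ_pow htz (f := Seven.tabAct) ht'
  set o := orderOf t
  have hfix : ∀ {j m : ℕ}, m < 4096 → B.q (Seven.tabAct^[j] m) * (B.q m)⁻¹ ∈ Subgroup.zpowers S.z →
      ¬ 7 ∣ j → m = 0 := by
    intro j m hm hq h7
    have e1 : Seven.tabAct^[j] m = m := B.q_inj ((hp j m hm).1) hm hq
    have e2 : Seven.tabAct^[21] m = m := Nat.eq_of_beq_eq_true (forallLt_elim Seven.period_check hm)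
    have e3 : Seven.tabAct^[Nat.gcd j 21] m = m :=
      (show Function.IsPeriodicPt Seven.tabAct j m from e1).gcd e2
    have hg : Nat.gcd j 21 ∣ 3 := by
      have h1 : Nat.gcd j 21 ∣ 7 * 3 := Nat.gcd_dvd_right j 21
      refine (Nat.Coprime.dvd_of_dvd_mul_left (((Nat.Prime.coprime_iff_not_dvd (by norm_num : Nat.Prime 7)).2
        fun h => h7 (h.trans (Nat.gcd_dvd_left j 21))).symm) h1)
    obtain ⟨d, hd⟩ := hg
    have e4 : Seven.tabAct^[3] m = m := by
      rw [hd, Function.iterate_mul]; exact Function.iterate_fixed e3 d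
    have h := forallLt_elim Seven.cube_check hm
    simp only [Bool.or_eq_true, Bool.not_eq_true', Nat.beq_eq, e4] at h
    rcases h with h | h
    · exact h
    · simp at h
  have ho7 : 7 ∣ o := by
    by_contra h7
    have h := hfix (j := o) (m := 1) (by norm_num) ?_ h7
    · omega
    · have := (hp o 1 (by norm_num)).2
      rw [pow_orderOf_eq_one, one_mul, inv_one, mul_one] at this
      have h' := inv_mem this
      rwa [mul_inv_rev, inv_inv] at h'
  have h49 : ¬ 7 ∣ o / 7 := fun h => S.not_sq_dvd_H (Or.inr rfl) (by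
    have h1 : 7 * 7 ∣ o := by
      have := mul_dvd_mul_left 7 h
      rwa [Nat.mul_div_cancel' ho7] at this
    refine h1.trans ?_
    have := orderOf_dvd_natCard (⟨t, S.mem_H.2 htz⟩ : S.H)
    rwa [← Subgroup.orderOf_coe] at this)
  refine ⟨t ^ (o / 7), orderOf_pow_orderOf_div (orderOf_pos t).ne' ho7, htz.pow_left _, fun e he hc => ?_⟩
  obtain ⟨n, hn, rfl⟩ := B.el_surjective he
  have hcq := B.el_q hn
  have hcz : Commute (t ^ (o / 7)) (B.el n * (B.q (n / 2))⁻¹) :=
    Frame.commute_z_zpowers (S := S) (htz.pow_left _) hcq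
  have hq : Commute (t ^ (o / 7)) (B.q (n / 2)) := by
    have := hcz.inv_right.mul_right hc.symm
    rwa [mul_inv_rev, inv_inv, mul_assoc, inv_mul_cancel, mul_one] at this
  have h := (hp (o / 7) (n / 2) (by omega)).2
  rw [hq.eq, mul_inv_cancel_right] at h
  have h' := inv_mem h
  rw [mul_inv_rev, inv_inv] at h'
  have hm := hfix (by omega) h' h49
  rwa [hm, show B.q 0 = 1 by simp [HexBase.q, HexBase.U_zero, HexBase.W_zero], inv_one, mul_one] at hcq

end HexBase

namespace Setting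

variable (S : Setting G) [Nonempty (Frame S)]

/-- An element of order seven in `C(z)` is conjugate into `C`. -/
theorem exists_conj_C_seven {x : G} (hx : orderOf x = 7) (hxz : Commute x S.z) :
    ∃ h, Commute h S.z ∧ h * x * h⁻¹ ∈ S.C := by
  obtain ⟨y, hyC, hy⟩ := S.exists_order_in_C (q := 7) (Or.inr rfl)
  obtain ⟨h, hh, hm⟩ := S.exists_conj_zpowers (Or.inr rfl) hx hxz hy (S.mem_C.1 hyC).1
  exact ⟨h, hh, Subgroup.zpowers_le.2 hyC hm⟩

theorem conj_seven {h x : G} (hx : orderOf x = 7) : orderOf (h * x * h⁻¹) = 7 := by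
  rw [show h * x * h⁻¹ = MulAut.conj h x from rfl, MulEquiv.orderOf_eq, hx]

/-- An element of order seven fixes only `⟨z⟩` in `E`. -/
theorem fixE_seven {x e : G} (hx : orderOf x = 7) (hxz : Commute x S.z) (he : e ∈ S.E) (hc : Commute e x) :
    e ∈ Subgroup.zpowers S.z := by
  have : Fact (Nat.Prime 7) := ⟨by norm_num⟩
  obtain ⟨B⟩ := S.exists_hexBase
  obtain ⟨y, hy, hyz, hfree⟩ := B.exists_seven_free
  obtain ⟨h, hh, hm⟩ := S.exists_conj_zpowers (Or.inr rfl) hx hxz hy hyz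
  have hz : Subgroup.zpowers (h * x * h⁻¹) = Subgroup.zpowers y :=
    Subgroup.eq_of_le_of_card_ge (Subgroup.zpowers_le.2 hm)
      (le_of_eq (by rw [Nat.card_zpowers, Nat.card_zpowers, hy, conj_seven hx]))
  obtain ⟨k, hk⟩ : y ∈ Subgroup.zpowers (h * x * h⁻¹) := hz ▸ Subgroup.mem_zpowers y
  have hk' : (h * x * h⁻¹) ^ k = y := hk
  have hE' : h * e * h⁻¹ ∈ S.E :=
    (Subgroup.mem_normalizer_iff.1 (S.hE.hnorm (mem_centralizer_singleton_iff'.2 hh.eq)) e).1 he
  have := hfree _ hE' (hk' ▸ ((LargeData.commute_conj_iff' (g := h)).2 hc).zpow_right k)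
  have h2 : h⁻¹ * (h * e * h⁻¹) * h = h * e * h⁻¹ := by
    rw [(Frame.commute_z_zpowers (S := S) hh.inv_left this).eq, inv_mul_cancel_right]
  rw [show h⁻¹ * (h * e * h⁻¹) * h = e by group] at h2
  rwa [h2]

section

variable {x : G} (hx : orderOf x = 7) (hxC : x ∈ S.C)
include hx hxC

theorem fixX_seven : S.fixX x = Subgroup.zpowers S.z := by
  refine le_antisymm (fun e he => ?_) (Subgroup.zpowers_le.2 (S.mem_fixX.2 ⟨S.hE.z_mem, (S.mem_C.1 hxC).1.symm⟩))
  obtain ⟨h1, h2⟩ := S.mem_fixX.1 he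
  exact S.fixE_seven hx (S.mem_C.1 hxC).1 h1 h2

theorem cent0_card_seven : Nat.card (S.cent0 x) = 42 := by
  rw [S.card_cent0 (Or.inr rfl) hx hxC, S.fixX_seven hx hxC, Nat.card_zpowers, S.orderOf_z]

theorem inner_involution_seven {u : G} (hu : u ∈ S.cent0 x) (h2 : u * u = 1) : u = 1 ∨ u = S.z := by
  obtain ⟨h0, hc⟩ := S.mem_cent0.1 hu
  obtain ⟨n, r, hr, e, he, rfl⟩ := S.cent0_decomp (Or.inr rfl) hx hxC h0 hc
  rw [S.fixX_seven hx hxC] at he
  have hce : ∀ {w}, Commute w S.z → Commute w e := fun hw => Frame.commute_z_zpowers (S := S) hw he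
  have hez : e * e = 1 := by rcases S.hE.eq_or he with rfl | rfl; exacts [one_mul 1, S.hE.mul_self_z]
  have hvz : Commute (x ^ n * r) e := hce (((S.mem_C.1 hxC).1.pow_left n).mul_left (S.P_commute_z hr))
  rw [show x ^ n * (r * e) = x ^ n * r * e from (mul_assoc _ _ _).symm, hvz.symm.mul_mul_mul_comm, hez,
    mul_one] at h2
  have hxr : Commute (x ^ n) r := ((S.mem_C.1 hxC).2 r hr).pow_left n
  have h21 : (x ^ n * r) ^ 21 = 1 := by
    rw [hxr.mul_pow, ← pow_mul, show n * 21 = 7 * (n * 3) by ring, pow_mul, ← hx, pow_orderOf_eq_one, one_pow,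
      one_mul, show (21 : ℕ) = 3 * 7 from rfl, pow_mul, S.P_pow_three hr, one_pow]
  have h1 : x ^ n * r = 1 := by
    rw [show (21 : ℕ) = 2 * 10 + 1 from rfl, pow_succ, pow_mul, pow_two, h2, one_pow, one_mul] at h21
    exact h21
  rw [← mul_assoc, h1, one_mul]
  exact S.hE.eq_or he

theorem centH_card_seven : Nat.card (S.centH x) = 42 ∨ Nat.card (S.centH x) = 84 := by
  by_cases h : ∃ o, o ∈ S.centH x ∧ o ∉ S.H0
  · obtain ⟨o, ho, ho0⟩ := h
    right
    rw [S.card_centH_of_outer ho0 (S.mem_centH.1 ho).1 (S.mem_centH.1 ho).2, S.cent0_card_seven hx hxC]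
  · simp only [not_exists, not_and, not_not] at h
    left
    rw [← S.cent0_card_seven hx hxC]
    refine congrArg (fun K : Subgroup G => Nat.card ↥K) (le_antisymm (fun o ho =>
      S.mem_cent0.2 ⟨h o ho, (S.mem_centH.1 ho).2⟩) fun o ho =>
      S.mem_centH.2 ⟨S.mem_H.1 (S.hH0 (S.mem_cent0.1 ho).1), (S.mem_cent0.1 ho).2⟩)

theorem few_involutions_seven :
    {u : G | Commute u S.z ∧ Commute u x ∧ u * u = 1 ∧ u ≠ 1 ∧ u ≠ S.z}.ncard ≤ 6 := by
  have h := Seven.mul_ncard_le (q := 7) rfl hx (s := {u : G | Commute u S.z ∧ Commute u x ∧ u * u = 1 ∧ u ≠ 1 ∧ u ≠ S.z})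
    (T := (S.centH x : Set G) \ (S.cent0 x : Set G)) (fun u hu => ⟨hu.2.2.1, hu.2.1⟩) (fun u hu i => ?_)
  · have hsub : (S.cent0 x : Set G) ⊆ (S.centH x : Set G) := fun v hv =>
      S.mem_centH.2 ⟨S.mem_H.1 (S.hH0 (S.mem_cent0.1 hv).1), (S.mem_cent0.1 hv).2⟩
    rw [Set.ncard_sdiff hsub (Set.toFinite _), ← Nat.card_coe_set_eq (S.centH x : Set G),
      ← Nat.card_coe_set_eq (S.cent0 x : Set G)] at h
    have h1 := S.centH_card_seven hx hxC
    have h2 := S.cent0_card_seven hx hxC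
    change 7 * _ ≤ Nat.card (S.centH x) - Nat.card (S.cent0 x) at h
    omega
  · obtain ⟨h1, h2, h3, h4, h5⟩ := hu
    refine ⟨S.mem_centH.2 ⟨h1.mul_left ((S.mem_C.1 hxC).1.pow_left i),
      h2.mul_left ((Commute.refl x).pow_left i)⟩, fun hc => ?_⟩
    have hxi : x ^ i ∈ S.cent0 x := pow_mem (S.mem_cent0.2 ⟨S.C_le_H0 hxC, Commute.refl x⟩) i
    rcases S.inner_involution_seven hx hxC ((Subgroup.mul_mem_cancel_right _ hxi).1 hc) h3 with e | e
    exacts [h4 e, h5 e]

theorem not_inverted_seven {u : G} (huz : Commute u S.z) (hux : Commute u x) (hu : u * u = 1) (hu1 : u ≠ 1)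
    (hune : u ≠ S.z) {h : G} (hh : Commute h S.z) : h * x * h⁻¹ ≠ x⁻¹ := by
  intro he
  have hu0 : u ∉ S.H0 := fun h0 => (S.inner_involution_seven hx hxC (S.mem_cent0.2 ⟨h0, hux⟩) hu).elim hu1 hune
  obtain ⟨k, hk0, hkx⟩ : ∃ k, k ∈ S.H0 ∧ k * x * k⁻¹ = x⁻¹ := by
    by_cases h0 : h ∈ S.H0
    · exact ⟨h, h0, he⟩
    · refine ⟨h * u, S.hidx h u hh huz h0 hu0, ?_⟩
      rw [show h * u * x * (h * u)⁻¹ = h * (u * x * u⁻¹) * h⁻¹ by group, hux.eq, mul_inv_cancel_right, he]
  have hx0 := S.C_le_H0 hxC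
  refine Seven.not_inverted (g := S.f k) (S.orderOf_f (Or.inr rfl) hx hxC) ?_
  rw [← S.f_conj hk0 hx0, hkx, S.f_inv hx0]

theorem exists_square_seven : ∃ c, Commute c S.z ∧ c * x * c⁻¹ = x ^ 2 := by
  obtain ⟨g, hg⟩ := Seven.exists_square (S.orderOf_f (Or.inr rfl) hx hxC)
  obtain ⟨c, hc, rfl⟩ := S.exists_C g
  refine ⟨c, (S.mem_C.1 hc).1, ?_⟩
  set y := c * x * c⁻¹ with hy
  have hyC : y ∈ S.C := mul_mem (mul_mem hc hxC) (inv_mem hc)
  have hx2 : x ^ 2 ∈ S.C := pow_mem hxC 2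
  set k := (x ^ 2)⁻¹ * y with hk
  have hkC : k ∈ S.C := mul_mem (inv_mem hx2) hyC
  have hk1 : S.f k = 1 := by
    rw [hk, S.f_mul_C (inv_mem hx2) hyC, S.f_inv_C hx2, S.f_pow_C hxC, hy, S.f_conj_C hc hxC, hg, inv_mul_cancel]
  have hx7 : x ^ 7 = 1 := hx ▸ pow_orderOf_eq_one x
  have hk7 : k ^ 7 = 1 := by
    have hy7 : y ^ 7 = 1 := by rw [hy, conj_pow, hx7]; simp
    rw [← mul_inv_cancel_left (x ^ 2) y, ← hk] at hy7
    rw [(S.ker_central hkC hk1 hx2).symm.mul_pow, ← pow_mul, mul_comm, pow_mul, hx7, one_pow, one_mul] at hy7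
    exact hy7
  have := pow_gcd_eq_one.2 (And.intro hk7 (S.ker_pow_six hkC hk1))
  rw [show Nat.gcd 7 6 = 1 from rfl, pow_one] at this
  exact (inv_mul_eq_one.1 this).symm

end

end Setting

end CfsgLib.JankoFour
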