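import Cfsg.Agent.Lib.JankoFour.SecondCentralizer
import Cfsg.Agent.Lib.JankoFourHexad.Cent
import Cfsg.Agent.Lib.JankoFourHexad.General
import Cfsg.Agent.Lib.JankoFourSevenLocal.Fixed

/-!
# Elements of order seven in the centralizer of an involution of the second class (owner: helper25)

No elements of order three and seven there commute, and there are at most 56 elements commuting with both.
-/

set_option autoImplicit false
set_option linter.unusedSectionVars false

namespace CfsgLib.JankoFour.Seven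

open Cfsg CfsgLib.ThreeTrans
open CfsgLib.JankoFourHexad
open CfsgLib.Sporadic (forallLt_elim)

variable {G : Type*} [Group G] [Finite G] [IsSimpleGroup G]

theorem duadRep_bit : dMask.testBit (pairCode none (some 0)) = true := by decide +kernel

/-- The structure of the centralizer of an involution outside the class of `z`. -/
theorem second_centralizer' (hG : ¬ IsMulCommutative G) {z : G} (hJ : IsOfJankoFourTypeAt z) {t : G}
    (ht : orderOf t = 2) (hnc : ¬ IsConj z t) :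
    ∃ V K : Subgroup G, V ≤ Subgroup.centralizer ({t} : Set G) ∧ K ≤ Subgroup.centralizer ({t} : Set G) ∧
      Subgroup.centralizer ({t} : Set G) ≤ Subgroup.normalizer (V : Set G) ∧ IsElementaryAbelian 2 V ∧
      Nat.card ↥V = 2 ^ 11 ∧ K ⊓ V = ⊥ ∧ K ⊔ V = Subgroup.centralizer ({t} : Set G) ∧
      Nonempty (↥K ≃* MulAut ↥Spor.M22) := by
  have hJ' : IsOfJankoFourType G := ⟨z, hJ⟩
  obtain ⟨P, hP⟩ := hJ
  obtain ⟨S, rfl, rfl⟩ := exists_setting hP
  obtain ⟨B⟩ := S.exists_hexBase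
  obtain ⟨K, hK, hKV, hKV', -⟩ := B.exists_complement hG hJ'
  refine B.second_centralizer hG hJ' ?_ hK hKV hKV' ht hnc
  obtain ⟨-, -, hO⟩ := B.duads_spec hG hJ'
  obtain ⟨g, hg, e⟩ := hO (pairCode none (some 0)) (pairCode_lt _ _) duadRep_bit
  intro y hy
  have hy' : Commute y (g * B.vel 2 * g⁻¹) := e ▸ mem_centralizer_singleton_iff'.1 hy
  have h1 : g⁻¹ * y * g ∈ B.NV := B.cent_duad hG hJ' (mem_centralizer_singleton_iff'.2 (by
    calc g⁻¹ * y * g * B.vel 2 = g⁻¹ * (y * (g * B.vel 2 * g⁻¹)) * g := by group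
      _ = g⁻¹ * (g * B.vel 2 * g⁻¹ * y) * g := by rw [hy'.eq]
      _ = _ := by group))
  rw [show y = g * (g⁻¹ * y * g) * g⁻¹ by group]
  exact mul_mem (mul_mem hg h1) (inv_mem hg)

/-- The quotient of the centralizer of an involution of the second class. -/
theorem second_quot (hG : ¬ IsMulCommutative G) {z : G} (hJ : IsOfJankoFourTypeAt z) {t : G}
    (ht : orderOf t = 2) (hnc : ¬ IsConj z t) :
    ∃ (V : Subgroup G) (π : ↥(Subgroup.centralizer ({t} : Set G)) →* MulAut ↥Spor.M22),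
      IsElementaryAbelian 2 V ∧ Nat.card ↥V = 2 ^ 11 ∧ ∀ c, π c = 1 ↔ (c : G) ∈ V := by
  classical
  obtain ⟨V, K, hVC, hKC, hN, hV, hVc, hKV, hKV', ⟨e⟩⟩ := second_centralizer' hG hJ ht hnc
  set C := Subgroup.centralizer ({t} : Set G)
  haveI : (V.subgroupOf C).Normal := (Subgroup.normal_subgroupOf_iff_le_normalizer hVC).2 hN
  let π0 : ↥K →* ↥C ⧸ V.subgroupOf C := (QuotientGroup.mk' _).comp (Subgroup.inclusion hKC)
  have hb : Function.Bijective π0 := by
    refine ⟨(injective_iff_map_eq_one _).2 fun k hk => ?_, fun c => ?_⟩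
    · have h1 : (k : G) ∈ V := Subgroup.mem_subgroupOf.1
        ((QuotientGroup.eq_one_iff (N := V.subgroupOf C) (Subgroup.inclusion hKC k)).1 hk)
      have h2 : (k : G) ∈ K ⊓ V := ⟨k.2, h1⟩
      rw [hKV] at h2
      exact Subtype.ext (Subgroup.mem_bot.1 h2)
    · induction c using QuotientGroup.induction_on with | H c =>
      obtain ⟨k, hk, v, hv, hkv⟩ :=
        (CfsgLib.Core.mem_sup_iff_mul (hKC.trans hN)).1 (hKV'.symm ▸ c.2 : (c : G) ∈ K ⊔ V)
      refine ⟨⟨k, hk⟩, QuotientGroup.eq.2 ?_⟩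
      show k⁻¹ * (c : G) ∈ V
      rw [hkv, inv_mul_cancel_left]; exact hv
  let q := MulEquiv.ofBijective π0 hb
  refine ⟨V, e.toMonoidHom.comp (q.symm.toMonoidHom.comp (QuotientGroup.mk' _)), hV, hVc, fun c => ?_⟩
  show e (q.symm (QuotientGroup.mk' _ c)) = 1 ↔ _
  rw [MulEquiv.map_eq_one_iff, MulEquiv.map_eq_one_iff, QuotientGroup.mk'_apply, QuotientGroup.eq_one_iff]
  exact Subgroup.mem_subgroupOf

theorem orderOf_image {q : ℕ} [Fact q.Prime] (hq : q ≠ 2) {H A : Type*} [Group H] [Group A] (π : H →* A) {a : H}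
    (ha : orderOf a = q) (h2 : π a = 1 → a ^ 2 = 1) : orderOf (π a) = q := by
  refine orderOf_eq_prime (by rw [← map_pow, ← ha, pow_orderOf_eq_one, map_one]) fun e => ?_
  have h := orderOf_dvd_of_pow_eq_one (h2 e)
  rw [ha] at h
  exact hq ((Nat.prime_dvd_prime_iff_eq Fact.out Nat.prime_two).1 h)

/-- An involution commuting with commuting elements of order three and seven is conjugate to `z`. -/
theorem isConj_of_seven_three (hG : ¬ IsMulCommutative G) {z : G} (hJ : IsOfJankoFourTypeAt z) {t a b : G}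
    (ht : orderOf t = 2) (ha : orderOf a = 7) (hb : orderOf b = 3) (hat : Commute a t) (hbt : Commute b t)
    (hba : Commute b a) : IsConj z t := by
  by_contra hnc
  haveI : Fact (Nat.Prime 3) := ⟨Nat.prime_three⟩
  haveI : Fact (Nat.Prime 7) := ⟨by norm_num⟩
  obtain ⟨V, π, hV, -, hπ⟩ := second_quot hG hJ ht hnc
  let A : ↥(Subgroup.centralizer ({t} : Set G)) := ⟨a, mem_centralizer_singleton_iff'.2 hat.eq⟩
  let Bb : ↥(Subgroup.centralizer ({t} : Set G)) := ⟨b, mem_centralizer_singleton_iff'.2 hbt.eq⟩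
  refine aut_no_seven_three (a := π A) (b := π Bb)
    (orderOf_image (q := 7) (by norm_num) π (by rw [← Subgroup.orderOf_coe]; exact ha) fun e => Subtype.ext ?_)
    (orderOf_image (q := 3) (by norm_num) π (by rw [← Subgroup.orderOf_coe]; exact hb) fun e => Subtype.ext ?_)
    ((show Commute Bb A from Subtype.ext hba.eq).map π)
  exacts [hV.2 _ ((hπ A).1 e), hV.2 _ ((hπ Bb).1 e)]

/-- A 2-subgroup of `C(w) ∩ C(x)`, with `w` conjugate to `z`, has order at most four. -/
theorem card_le_four {S : Setting G} [Nonempty (Frame S)] {x w : G} (hx : orderOf x = 7) (hwx : Commute w x)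
    (hw : IsConj S.z w) {A : Subgroup G} (hA : IsPGroup 2 A) (hAw : ∀ a ∈ A, Commute a w)
    (hAx : ∀ a ∈ A, Commute a x) : Nat.card A ≤ 4 := by
  haveI : Fact (Nat.Prime 2) := ⟨Nat.prime_two⟩
  obtain ⟨g, hg⟩ := isConj_iff.1 hw.symm
  have hx1 : orderOf (g * x * g⁻¹) = 7 := Setting.conj_seven hx
  have hxz : Commute (g * x * g⁻¹) S.z := hg ▸ (LargeData.commute_conj_iff' (g := g)).2 hwx.symm
  obtain ⟨h, hh, hC⟩ := S.exists_conj_C_seven hx1 hxz
  have hx2 : orderOf (h * (g * x * g⁻¹) * h⁻¹) = 7 := Setting.conj_seven hx1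
  let c := (MulAut.conj (h * g)).toMonoidHom
  have hle : A.map c ≤ S.centH (h * (g * x * g⁻¹) * h⁻¹) := by
    rintro _ ⟨a, ha, rfl⟩
    refine S.mem_centH.2 ⟨?_, ?_⟩
    · have := (LargeData.commute_conj_iff' (g := h * g)).2 (hAw a ha)
      rw [show h * g * w * (h * g)⁻¹ = h * (g * w * g⁻¹) * h⁻¹ by group, hg, hh.eq, mul_inv_cancel_right] at this
      exact this
    · have := (LargeData.commute_conj_iff' (g := h * g)).2 (hAx a ha)
      rwa [show h * g * x * (h * g)⁻¹ = h * (g * x * g⁻¹) * h⁻¹ by group] at this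
  have hdvd := Subgroup.card_dvd_of_le hle
  rw [Subgroup.card_map_of_injective (MulAut.conj (h * g)).injective] at hdvd
  obtain ⟨n, hn⟩ := IsPGroup.iff_card.1 hA
  rw [hn] at hdvd ⊢
  have h84 : 2 ^ n ∣ 84 := by
    rcases S.centH_card_seven hx2 hC with e | e <;> rw [e] at hdvd
    exacts [hdvd.trans (by norm_num), hdvd]
  have hn7 : n < 7 := by
    by_contra h7
    have := Nat.le_of_dvd (by norm_num) ((pow_dvd_pow 2 (not_lt.1 h7)).trans h84)
    norm_num at this
  interval_cases n <;> first | (norm_num at h84; done) | norm_num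

/-- A subgroup of `V` without conjugates of `z` has order at most four. -/
theorem pure_le_four (hG : ¬ IsMulCommutative G) {z : G} (hJ : IsOfJankoFourTypeAt z) {V A : Subgroup G}
    (hV : IsElementaryAbelian 2 V) (hVc : Nat.card ↥V = 2 ^ 11) (hA : A ≤ V)
    (hpure : ∀ a ∈ A, a ≠ 1 → ¬ IsConj z a) : Nat.card A ≤ 4 := by
  classical
  by_contra hlt
  obtain ⟨S, rfl, B, g, rfl⟩ := exists_frame_conj hJ hV hVc
  have hJ' : IsOfJankoFourType G := ⟨_, hJ⟩
  obtain ⟨-, hD, hO⟩ := B.duads_spec hG hJ'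
  obtain ⟨a, ha, ha1⟩ : ∃ a ∈ A, a ≠ 1 := by
    by_contra hno
    simp only [not_exists, not_and, not_not] at hno
    have := Subgroup.card_le_of_le (show A ≤ (⊥ : Subgroup G) from fun u hu => Subgroup.mem_bot.2 (hno u hu))
    rw [Subgroup.card_bot] at this
    omega
  have hcode : ∀ {u : G}, u ∈ B.V → u ≠ 1 → ¬ IsConj S.z u → dMask.testBit (B.code u) = true := by
    intro u hu hu1 huz
    obtain ⟨hn, he⟩ := B.code_spec hu
    exact (hD _ hn).2 ⟨fun e => hu1 (by rw [← he, e, HexBase.vel_zero]), fun h => huz (he ▸ h : IsConj S.z u)⟩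
  have hmem : ∀ {u}, u ∈ A → g⁻¹ * u * g ∈ B.V := fun hu => mem_map_conj_iff'.1 (hA hu)
  have hne1 : ∀ {k u : G}, u ≠ 1 → k⁻¹ * u * k ≠ 1 := fun {k u} hu e => hu (by
    rw [show u = k * (k⁻¹ * u * k) * k⁻¹ by group, e]; group)
  have hconj : ∀ {k u : G}, IsConj u (k⁻¹ * u * k) := fun {k u} => isConj_iff.2 ⟨k⁻¹, by group⟩
  obtain ⟨hn, he⟩ := B.code_spec (hmem ha)
  obtain ⟨m, hm, hem⟩ := hO _ hn
    (hcode (hmem ha) (hne1 ha1) fun c => hpure a ha ha1 (c.trans hconj.symm))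
  rw [he] at hem
  have hmem' : ∀ {u}, u ∈ A → (g * m)⁻¹ * u * (g * m) ∈ B.V := by
    intro u hu
    rw [show (g * m)⁻¹ * u * (g * m) = m⁻¹ * (g⁻¹ * u * g) * m by group]
    exact (Subgroup.mem_normalizer_iff.1 hm _).2 (by
      rw [show m * (m⁻¹ * (g⁻¹ * u * g) * m) * m⁻¹ = g⁻¹ * u * g by group]; exact hmem hu)
  set k := g * m with hk
  set A' := A.map (MulAut.conj k⁻¹).toMonoidHom with hA'def
  have hA'c : Nat.card A' = Nat.card A := Subgroup.card_map_of_injective (MulAut.conj k⁻¹).injective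
  have hA' : ∀ {u}, u ∈ A' → u ∈ B.V ∧ (u ≠ 1 → ¬ IsConj S.z u) := by
    rintro _ ⟨u, hu, rfl⟩
    show k⁻¹ * u * k⁻¹⁻¹ ∈ B.V ∧ (k⁻¹ * u * k⁻¹⁻¹ ≠ 1 → ¬ IsConj S.z (k⁻¹ * u * k⁻¹⁻¹))
    rw [inv_inv]
    exact ⟨hmem' hu, fun h1 c => hpure u hu (fun e => h1 (by rw [e]; group)) (c.trans hconj.symm)⟩
  have h2 : B.vel 2 ∈ A' := ⟨a, ha, by
    show k⁻¹ * a * k⁻¹⁻¹ = B.vel 2
    rw [inv_inv, hk, show (g * m)⁻¹ * a * (g * m) = m⁻¹ * (g⁻¹ * a * g) * m by group, hem]; group⟩
  have hout : ∀ F : Finset G, F.card ≤ 4 → ∃ u ∈ A', u ∉ F := by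
    intro F hF
    by_contra hno
    simp only [not_exists, not_and, not_not] at hno
    have h := Set.ncard_le_ncard (show (A' : Set G) ⊆ (F : Set G) from hno) F.finite_toSet
    rw [Set.ncard_coe_finset, ← Nat.card_coe_set_eq] at h
    change Nat.card A' ≤ _ at h
    omega
  have hV2 : ∀ {u v : G}, u ∈ B.V → u * v = 1 → v = u := fun {u v} hu e => by
    rw [← inv_eq_of_mul_eq_one_right e]
    exact inv_eq_of_mul_eq_one_right (by rw [← pow_two]; exact B.V_elementary.2 u hu)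
  obtain ⟨b, hb, hbF⟩ := hout {1, B.vel 2} (Finset.card_le_two.trans (by norm_num))
  simp only [Finset.mem_insert, Finset.mem_singleton, not_or] at hbF
  obtain ⟨c, hc, hcF⟩ := hout {1, B.vel 2, b, B.vel 2 * b} Finset.card_le_four
  simp only [Finset.mem_insert, Finset.mem_singleton, not_or] at hcF
  obtain ⟨hbn, hbe⟩ := B.code_spec (hA' hb).1
  obtain ⟨hcn, hce⟩ := B.code_spec (hA' hc).1
  have hbit : ∀ {u}, u ∈ A' → u ≠ 1 → ∀ {n}, n < 2048 → B.vel n = u → dMask.testBit n = true := by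
    intro u hu hu1 n hn e
    have h := hcode (hA' hu).1 hu1 ((hA' hu).2 hu1)
    obtain ⟨hn', e'⟩ := B.code_spec (hA' hu).1
    rwa [B.vel_inj hn' hn (e'.trans e.symm)] at h
  have hx : ∀ {m n : ℕ}, m < 2048 → n < 2048 → Nat.xor m n < 2048 := fun h h' =>
    Nat.xor_lt_two_pow (n := 11) h h'
  have h := forallLt_elim pure_check hbn
  rw [hbit hb hbF.1 hbn hbe,
    hbit (mul_mem h2 hb) (fun e => hbF.2 (hV2 (hA' h2).1 e)) (hx (by norm_num) hbn)
      (by rw [← B.vel_xor, hbe])] at h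
  simp only [Bool.and_self, Bool.not_true, Bool.false_or] at h
  have h' := forallLt_elim h hcn
  rw [hbit hc hcF.1 hcn hce,
    hbit (mul_mem h2 hc) (fun e => hcF.2.1 (hV2 (hA' h2).1 e)) (hx (by norm_num) hcn)
      (by rw [← B.vel_xor, hce]),
    hbit (mul_mem hb hc) (fun e => hcF.2.2.1 (hV2 (hA' hb).1 e)) (hx hbn hcn)
      (by rw [← B.vel_xor, hce, hbe]),
    hbit (mul_mem (mul_mem h2 hb) hc) (fun e => hcF.2.2.2 (hV2 (hA' (mul_mem h2 hb)).1 e))
      (hx (hx (by norm_num) hbn) hcn) (by rw [← B.vel_xor, ← B.vel_xor, hce, hbe])] at h'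
  simp at h'

/-- The common centralizer of an involution of the second class and an element of order seven. -/
theorem card_cent_second (hG : ¬ IsMulCommutative G) {z : G} (hJ : IsOfJankoFourTypeAt z) {t x : G}
    (ht : orderOf t = 2) (hnc : ¬ IsConj z t) (hx : orderOf x = 7) (hxt : Commute x t) :
    Nat.card ↥(Subgroup.centralizer ({t} : Set G) ⊓ Subgroup.centralizer ({x} : Set G)) ≤ 56 := by
  classical
  haveI : Fact (Nat.Prime 7) := ⟨by norm_num⟩
  haveI : Fact (Nat.Prime 2) := ⟨Nat.prime_two⟩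
  set C := Subgroup.centralizer ({t} : Set G)
  obtain ⟨V, π, hV, hVc, hπ⟩ := second_quot hG hJ ht hnc
  set D := C ⊓ Subgroup.centralizer ({x} : Set G)
  let X : ↥C := ⟨x, mem_centralizer_singleton_iff'.2 hxt.eq⟩
  let ψ : ↥D →* MulAut ↥Spor.M22 := π.comp (Subgroup.inclusion inf_le_left)
  have hk : Nat.card (V ⊓ Subgroup.centralizer ({x} : Set G) : Subgroup G) ≤ 4 := by
    set A := V ⊓ Subgroup.centralizer ({x} : Set G)
    by_cases hpure : ∀ a ∈ A, a ≠ 1 → ¬ IsConj z a
    · exact pure_le_four hG hJ hV hVc inf_le_left hpure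
    · simp only [not_forall, not_not] at hpure
      obtain ⟨w, hw, -, hwz⟩ := hpure
      obtain ⟨P, hP⟩ := hJ
      obtain ⟨S, rfl, -⟩ := exists_setting hP
      haveI : Nonempty (Frame S) := exists_frame S
      have hVp : IsPGroup 2 V := IsPGroup.of_card hVc
      refine card_le_four hx (mem_centralizer_singleton_iff'.1 hw.2) hwz (hVp.to_le inf_le_left) (fun a ha => ?_)
        fun a ha => mem_centralizer_singleton_iff'.1 ha.2
      haveI := hV.1
      exact congrArg Subtype.val (mul_comm' (⟨a, ha.1⟩ : ↥V) ⟨w, hw.1⟩)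
  have hker : Nat.card ψ.ker ≤ 4 := by
    refine le_trans (Nat.card_le_card_of_injective (fun d : ψ.ker =>
      (⟨((d : ↥D) : G), (hπ (Subgroup.inclusion inf_le_left (d : ↥D))).1 (MonoidHom.mem_ker.1 d.2), (d : ↥D).2.2⟩ :
        ↥(V ⊓ Subgroup.centralizer ({x} : Set G)))) ?_) hk
    exact fun a b e => Subtype.ext (Subtype.ext
      (congrArg (fun v : ↥(V ⊓ Subgroup.centralizer ({x} : Set G)) => (v : G)) e :))
  have hX : orderOf (π X) = 7 :=
    orderOf_image (q := 7) (by norm_num) π (by rw [← Subgroup.orderOf_coe]; exact hx)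
      fun e => Subtype.ext (hV.2 _ ((hπ X).1 e))
  have hran : Nat.card ψ.range ≤ 14 := by
    refine le_trans (Subgroup.card_le_of_le ?_) (aut_centralizer_seven hX)
    rintro _ ⟨d, rfl⟩
    refine Subgroup.mem_centralizer_singleton_iff.2 ?_
    exact (show Commute (Subgroup.inclusion (inf_le_left : D ≤ C) d) X from
      Subtype.ext (mem_centralizer_singleton_iff'.1 d.2.2)).map π
  have h := ψ.ker.card_mul_index
  rw [Subgroup.index_ker] at h
  rw [← h]
  exact (Nat.mul_le_mul hker hran).trans (by norm_num)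

end CfsgLib.JankoFour.Seven
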