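import Cfsg.Agent.Lib.JankoFourTrio.Normalizer
import Cfsg.Agent.Lib.JankoFourSevenLocal.Tools

/-!
# An element of order seven centralised by a group mapping onto `S5` (owner: helper25)
-/

set_option autoImplicit false
set_option linter.unusedSectionVars false
set_option maxRecDepth 100000

namespace CfsgLib.JankoFour.Seven

open Cfsg CfsgLib.ThreeTrans
open CfsgLib.JankoFour CfsgLib.JankoFour.HexBase
open CfsgLib.JankoFourTrio

variable {G : Type*} [Group G] [Finite G] [IsSimpleGroup G]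

theorem gP_two_ne : CfsgLib.ThreeTrans.M24Inv.peq (gP 2) CfsgLib.Sporadic.pone = false := by decide +kernel

/-- An element of order seven in the normalizer of the trio group. -/
theorem exists_seven_sym (hG : ¬ IsMulCommutative G) (hJ : IsOfJankoFourType G) :
    ∃ (y : G) (M : Subgroup G) (f : ↥M →* Equiv.Perm (Fin 5)), orderOf y = 7 ∧
      (∀ g ∈ M, Commute g y) ∧ Function.Surjective f ∧ (∃ h : y ∈ M, f ⟨y, h⟩ = 1) ∧
      Nat.card f.ker ∣ 2 ^ 15 * 7 := by
  classical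
  haveI : Fact (Nat.Prime 7) := ⟨by norm_num⟩
  obtain ⟨z, P, hP⟩ := hJ
  obtain ⟨S, rfl, rfl⟩ := exists_setting hP
  obtain ⟨B⟩ := S.exists_hexBase
  have hJ : IsOfJankoFourType G := ⟨_, _, hP⟩
  obtain ⟨T⟩ := exists_trioLift B hG hJ
  obtain ⟨Ψ, hΨ, hker, hsnd, hone⟩ := T.exists_psi hG hJ
  obtain ⟨h2, -⟩ := T.gens_mem hG hJ
  have hσM := (T.mem_sectionSub.1 h2).2.2.1
  set y : ↥B.trioM := ⟨T.κ (gσ 2), hσM⟩
  have hy : orderOf (y : G) = 7 := by
    refine orderOf_eq_prime (by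
      show T.κ (gσ 2) ^ 7 = 1
      rw [← map_pow, gσ_pow_facts.2.2.2.2.2.2.2.2.1, map_one]) fun e => ?_
    refine peq_false (rep_gσ (by norm_num : 2 < 10)) rep_one gP_two_ne (T.eq_one_of_mem_V ?_)
    rw [show T.κ (gσ 2) = 1 from e]
    exact one_mem _
  have hy1 : (Ψ y).1 = 1 := hone _ h2 hσM
  set A := (Ψ y).2
  have hL : Nat.card Ψ.ker = 2 ^ 15 := by
    rw [← (T.cards hG hJ).2.2]
    exact Nat.card_congr
      { toFun := fun k => ⟨((k : ↥B.trioM) : G), (hker _).1 (MonoidHom.mem_ker.1 k.2)⟩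
        invFun := fun l => ⟨⟨l, B.trioC_le_M (B.trioL_le l.2).1⟩, MonoidHom.mem_ker.2 ((hker _).2 l.2)⟩
        left_inv := fun _ => rfl
        right_inv := fun _ => rfl }
  set N : Subgroup ↥B.trioM :=
    Subgroup.centralizer ({y} : Set ↥B.trioM) ⊓ (Subgroup.zpowers A).comap ((MonoidHom.snd _ _).comp Ψ)
  let φ : ↥N →* Equiv.Perm (Fin 5) := (MonoidHom.fst _ _).comp (Ψ.comp N.subtype)
  set M : Subgroup G := N.map B.trioM.subtype
  let e : ↥N ≃* ↥M := N.equivMapOfInjective _ B.trioM.subtype_injective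
  refine ⟨y, M, φ.comp e.symm.toMonoidHom, hy, ?_, ?_, ?_, ?_⟩
  · rintro _ ⟨g, hg, rfl⟩
    exact (show Commute g y from Subgroup.mem_centralizer_singleton_iff.1 hg.1).map B.trioM.subtype
  · refine Function.Surjective.comp (g := φ) ?_ e.symm.surjective
    intro π
    obtain ⟨g, hg⟩ := hΨ (π, 1)
    have hc : Commute (Ψ g) (Ψ y) := by
      rw [hg]
      exact Prod.ext (by rw [Prod.fst_mul, Prod.fst_mul, hy1, one_mul, mul_one]) (by simp)
    obtain ⟨g', hg', hc'⟩ := exists_commute_lift Ψ (q := 7) (r := y) (by rw [← Subgroup.orderOf_coe]; exact hy)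
      (by rw [hL]; norm_num) g hc
    refine ⟨⟨g', Subgroup.mem_centralizer_singleton_iff.2 hc'.eq, ?_⟩, ?_⟩
    · show (Ψ g').2 ∈ Subgroup.zpowers A
      rw [hg', hg]; exact one_mem _
    · show (Ψ g').1 = π
      rw [hg', hg]
  · have hyN : y ∈ N := ⟨Subgroup.mem_centralizer_singleton_iff.2 rfl, Subgroup.mem_zpowers A⟩
    refine ⟨⟨y, hyN, rfl⟩, ?_⟩
    show φ (e.symm _) = 1
    rw [show (⟨(y : G), _⟩ : ↥M) = e ⟨y, hyN⟩ from Subtype.ext rfl, MulEquiv.symm_apply_apply]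
    exact hy1
  · have hkc : Nat.card (φ.comp e.symm.toMonoidHom).ker = Nat.card φ.ker :=
      Nat.card_congr (Equiv.subtypeEquiv e.symm.toEquiv fun k => Iff.rfl)
    rw [hkc]
    let θ : ↥φ.ker →* ↥(Subgroup.zpowers A) :=
      ((MonoidHom.snd _ _).comp (Ψ.comp (N.subtype.comp φ.ker.subtype))).codRestrict _ fun k => (k : ↥N).2.2
    have h := θ.ker.card_mul_index
    rw [Subgroup.index_ker] at h
    rw [← h]
    refine mul_dvd_mul ?_ ((Subgroup.card_subgroup_dvd_card _).trans ?_)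
    · rw [← hL]
      exact Subgroup.card_dvd_of_injective
        ((N.subtype.comp (φ.ker.subtype.comp θ.ker.subtype)).codRestrict Ψ.ker fun k => Prod.ext
          (MonoidHom.mem_ker.1 (k : ↥φ.ker).2) (congrArg Subtype.val (MonoidHom.mem_ker.1 k.2)))
        fun a b e' => Subtype.ext (Subtype.ext (Subtype.ext (congrArg (fun v : ↥Ψ.ker => (v : ↥B.trioM)) e' :)))
    · rw [Nat.card_zpowers, ← hy]
      rw [Subgroup.orderOf_coe]
      exact orderOf_map_dvd ((MonoidHom.snd _ _).comp Ψ) y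

end CfsgLib.JankoFour.Seven
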