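import Cfsg.Agent.Lib.JankoFourHexad.Dihedral
import Cfsg.Agent.Lib.JankoFourSevenLocal.Second
import Cfsg.Agent.Lib.JankoFourSevenLocal.Trio

/-!
# The centralizer and the normalizer of a subgroup of order seven (owner: helper25)

The centralizer of `x` has order 840 by counting pairs of involutions from the two classes.
-/

set_option autoImplicit false
set_option linter.unusedSectionVars false

namespace CfsgLib.JankoFour.Seven

open Cfsg CfsgLib.ThreeTrans

variable {G : Type*} [Group G] [Finite G] [IsSimpleGroup G]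

/-- The centralizer of `x`. -/
abbrev CG (x : G) : Subgroup G := Subgroup.centralizer ({x} : Set G)

theorem mem_CG {x g : G} : g ∈ CG x ↔ Commute g x := mem_centralizer_singleton_iff'

/-- What the trio group gives. -/
def SymData (x : G) : Prop :=
  ∃ (M : Subgroup G) (f : ↥M →* Equiv.Perm (Fin 5)), M ≤ CG x ∧ Function.Surjective f ∧
    ∃ h : x ∈ M, f ⟨x, h⟩ = 1

theorem symData_conj {x : G} (h : SymData x) (g : G) : SymData (g * x * g⁻¹) := by
  obtain ⟨M, f, hM, hf, hx, hfx⟩ := h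
  let c := (MulAut.conj g).toMonoidHom
  let e : ↥M ≃* ↥(M.map c) := M.equivMapOfInjective c (MulAut.conj g).injective
  refine ⟨M.map c, f.comp e.symm.toMonoidHom, ?_, hf.comp e.symm.surjective, ⟨x, hx, rfl⟩, ?_⟩
  · rintro _ ⟨m, hm, rfl⟩
    exact mem_CG.2 ((LargeData.commute_conj_iff' (g := g)).2 (mem_CG.1 (hM hm)))
  · show f (e.symm _) = 1
    rw [show (⟨g * x * g⁻¹, _⟩ : ↥(M.map c)) = e ⟨x, hx⟩ from Subtype.ext rfl, MulEquiv.symm_apply_apply]
    exact hfx

theorem symData_of_zpowers {x y : G} (h : SymData x) (hz : Subgroup.zpowers x = Subgroup.zpowers y) :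
    SymData y := by
  obtain ⟨M, f, hM, hf, hx, hfx⟩ := h
  obtain ⟨k, hk⟩ : y ∈ Subgroup.zpowers x := hz ▸ Subgroup.mem_zpowers y
  have hk' : x ^ k = y := hk
  refine ⟨M, f, fun m hm => mem_CG.2 (hk' ▸ (mem_CG.1 (hM hm)).zpow_right k), hf, hk' ▸ zpow_mem hx k, ?_⟩
  rw [show (⟨y, _⟩ : ↥M) = ⟨x, hx⟩ ^ k from Subtype.ext (by rw [Subgroup.coe_zpow]; exact hk'.symm), map_zpow, hfx,
    one_zpow]

variable (S : Setting G) [Nonempty (Frame S)]

/-- Some element of order seven with the data centralizes `z`. -/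
theorem exists_symData (hG : ¬ IsMulCommutative G) (hJ : IsOfJankoFourTypeAt S.z) :
    ∃ x : G, orderOf x = 7 ∧ Commute x S.z ∧ SymData x := by
  classical
  haveI : Fact (Nat.Prime 2) := ⟨Nat.prime_two⟩
  haveI : Fact (Nat.Prime 3) := ⟨Nat.prime_three⟩
  obtain ⟨y, M, f, hy, hMy, hf, ⟨hyM, hfy⟩, hk⟩ := exists_seven_sym hG ⟨_, hJ⟩
  obtain ⟨h3, h3ne, h22, h2ne, h23⟩ := s_facts
  have hk3 : ¬ 3 ∣ Nat.card f.ker := fun h => by
    have := h.trans hk
    norm_num at this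
  obtain ⟨g, hg⟩ := hf s3
  set r := g ^ Nat.card f.ker with hr
  have hfr : f r = s3 ^ Nat.card f.ker := by rw [hr, map_pow, hg]
  have hfr1 : f r ≠ 1 := fun e => hk3 (by
    have := orderOf_dvd_of_pow_eq_one (hfr ▸ e : s3 ^ Nat.card f.ker = 1)
    rwa [orderOf_eq_prime h3 h3ne] at this)
  have hr3 : orderOf r = 3 := by
    refine orderOf_eq_prime ?_ fun e => hfr1 (by rw [e, map_one])
    have hg3 : g ^ 3 ∈ f.ker := MonoidHom.mem_ker.2 (by rw [map_pow, hg, h3])
    rw [hr, ← pow_mul, mul_comm, pow_mul]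
    exact congrArg Subtype.val (pow_card_eq_one' (x := (⟨g ^ 3, hg3⟩ : ↥f.ker)))
  obtain ⟨h, hh⟩ := hf s2
  obtain ⟨h', hh', hc⟩ := exists_commute_lift f (q := 3) (r := r) hr3 hk3 h
    (by rw [hh, hfr]; exact (show Commute s2 s3 from h23).pow_right _)
  have hev : 2 ∣ orderOf h' := by
    have e2 : orderOf (f h') = 2 := by rw [hh', hh]; exact orderOf_eq_prime h22 h2ne
    exact e2 ▸ orderOf_map_dvd f h'
  obtain ⟨n, hn⟩ := exists_involution_pow hev
  set τ : G := ((h' ^ n : ↥M) : G)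
  have hτ2 : orderOf τ = 2 := by rw [Subgroup.orderOf_coe, hn]
  obtain ⟨c, hc'⟩ := isConj_iff.1 (isConj_of_seven_three hG hJ (t := τ) (a := y) (b := (r : G)) hτ2 hy
    (by rw [Subgroup.orderOf_coe, hr3]) (hMy _ (h' ^ n).2).symm
    (((hc.pow_left n).symm).map M.subtype) (hMy _ r.2)).symm
  refine ⟨c * y * c⁻¹, Setting.conj_seven hy,
    hc' ▸ (LargeData.commute_conj_iff' (g := c)).2 (hMy _ (h' ^ n).2).symm, ?_⟩
  exact symData_conj ⟨M, f, fun m hm => mem_CG.2 (hMy m hm), hf, hyM, hfy⟩ c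

theorem symData_all (hG : ¬ IsMulCommutative G) (hJ : IsOfJankoFourTypeAt S.z) {x : G} (hx : orderOf x = 7)
    (hxz : Commute x S.z) : SymData x := by
  obtain ⟨y, hy, hyz, hD⟩ := exists_symData S hG hJ
  obtain ⟨h, -, hm⟩ := S.exists_conj_zpowers (Or.inr rfl) hy hyz hx hxz
  refine symData_of_zpowers (symData_conj hD h) (Subgroup.eq_of_le_of_card_ge (Subgroup.zpowers_le.2 hm) ?_)
  rw [Nat.card_zpowers, Nat.card_zpowers, hx, Setting.conj_seven hy]

variable {x : G} (hx : orderOf x = 7) (hxz : Commute x S.z)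
include hx hxz

/-- The involutions other than `w` commuting with `w` and `x`. -/
def side (x w : G) : Set G := {u | Commute u w ∧ Commute u x ∧ u * u = 1 ∧ u ≠ 1 ∧ u ≠ w}

theorem dvd_cent (hG : ¬ IsMulCommutative G) (hJ : IsOfJankoFourTypeAt S.z) : 840 ∣ Nat.card (CG x) := by
  obtain ⟨M, f, hM, hf, hxM, hfx⟩ := symData_all S hG hJ hx hxz
  refine dvd_trans ?_ (Subgroup.card_dvd_of_le hM)
  have h := f.ker.card_mul_index
  rw [Subgroup.index_ker, MonoidHom.range_eq_top.2 hf, Subgroup.card_top,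
    Nat.card_perm, Nat.card_fin] at h
  rw [← h, show (840 : ℕ) = 7 * Nat.factorial 5 from rfl]
  refine mul_dvd_mul_right ?_ _
  have := orderOf_dvd_natCard (⟨⟨x, hxM⟩, hfx⟩ : f.ker)
  rwa [← Subgroup.orderOf_coe, ← Subgroup.orderOf_coe, hx] at this

omit hx hxz in
theorem side_z_le {w : G} (hx : orderOf x = 7) (hwx : Commute w x) (hw : IsConj S.z w) :
    (side x w).ncard ≤ 6 := by
  obtain ⟨g, hg⟩ := isConj_iff.1 hw.symm
  have hx1 : orderOf (g * x * g⁻¹) = 7 := Setting.conj_seven hx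
  have hxz' : Commute (g * x * g⁻¹) S.z := hg ▸ (LargeData.commute_conj_iff' (g := g)).2 hwx.symm
  obtain ⟨h, hh, hC⟩ := S.exists_conj_C_seven hx1 hxz'
  refine le_trans ?_ (S.few_involutions_seven (Setting.conj_seven (h := h) hx1) hC)
  refine Set.ncard_le_ncard_of_injOn (MulAut.conj (h * g)) ?_ (MulAut.conj (h * g)).injective.injOn (Set.toFinite _)
  rintro u ⟨h1, h2, h3, h4, h5⟩
  have hwz : h * g * w * (h * g)⁻¹ = S.z := by
    rw [show h * g * w * (h * g)⁻¹ = h * (g * w * g⁻¹) * h⁻¹ by group, hg, hh.eq, mul_inv_cancel_right]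
  refine ⟨hwz ▸ (LargeData.commute_conj_iff' (g := h * g)).2 h1, ?_, ?_, ?_, ?_⟩
  · have := (LargeData.commute_conj_iff' (g := h * g)).2 h2
    rwa [show h * g * x * (h * g)⁻¹ = h * (g * x * g⁻¹) * h⁻¹ by group] at this
  · rw [← map_mul, h3, map_one]
  · exact fun e => h4 ((MulAut.conj (h * g)).injective (e.trans (map_one _).symm))
  · exact fun e => h5 ((MulAut.conj (h * g)).injective (e.trans hwz.symm))

omit hx hxz in
theorem side_t_le (hG : ¬ IsMulCommutative G) (hJ : IsOfJankoFourTypeAt S.z) {w : G} (hx : orderOf x = 7)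
    (hwx : Commute w x) (hw2 : w * w = 1) (hw1 : w ≠ 1) (hw : ¬ IsConj S.z w) : (side x w).ncard ≤ 6 := by
  classical
  set D := Subgroup.centralizer ({w} : Set G) ⊓ CG x
  have hD : Nat.card ↥D ≤ 56 :=
    card_cent_second hG hJ (orderOf_eq_prime (by rw [pow_two, hw2]) hw1) hw hx hwx.symm
  set s : Set G := insert 1 (insert w (side x w))
  have hs : ∀ u ∈ s, u * u = 1 ∧ Commute u x ∧ Commute u w := by
    rintro u (rfl | rfl | hu)
    exacts [⟨one_mul 1, Commute.one_left _, Commute.one_left _⟩, ⟨hw2, hwx, Commute.refl u⟩,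
      ⟨hu.2.2.1, hu.2.1, hu.1⟩]
  have h := mul_ncard_le (q := 7) rfl hx (s := s) (T := (D : Set G)) (fun u hu => ⟨(hs u hu).1, (hs u hu).2.1⟩)
    fun u hu i => ⟨mem_centralizer_singleton_iff'.2 ((hs u hu).2.2.mul_left (hwx.symm.pow_left i)).eq,
      mem_CG.2 ((hs u hu).2.1.mul_left ((Commute.refl x).pow_left i))⟩
  rw [← Nat.card_coe_set_eq (D : Set G)] at h
  change 7 * _ ≤ Nat.card ↥D at h
  have h2 : w ∉ side x w := fun hu => hu.2.2.2.2 rfl
  have h3 : (1 : G) ∉ insert w (side x w) := fun hu => hu.elim (fun e => hw1 e.symm) fun hu => hu.2.2.2.1 rfl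
  have hcard : s.ncard = (side x w).ncard + 1 + 1 := by
    rw [Set.ncard_insert_of_notMem h3, Set.ncard_insert_of_notMem h2]
  omega

/-- An involution of the second class commutes with `z` and `x`. -/
theorem exists_second (hG : ¬ IsMulCommutative G) (hJ : IsOfJankoFourTypeAt S.z) :
    ∃ w : G, Commute w S.z ∧ Commute w x ∧ w * w = 1 ∧ w ≠ 1 ∧ ¬ IsConj S.z w := by
  classical
  haveI : Fact (Nat.Prime 2) := ⟨Nat.prime_two⟩
  let Z : ↥(CG x) := ⟨S.z, mem_CG.2 hxz.symm⟩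
  have hZ : orderOf Z = 2 := by rw [← Subgroup.orderOf_coe]; exact S.orderOf_z
  obtain ⟨T, hT⟩ := (IsPGroup.of_card (n := 1) (by rw [Nat.card_zpowers, hZ, pow_one]) :
    IsPGroup 2 (Subgroup.zpowers Z)).exists_le_sylow
  have h8 : 8 ∣ Nat.card (T : Subgroup ↥(CG x)) :=
    T.pow_dvd_card_of_pow_dvd_card (n := 3) (dvd_trans (by norm_num) (dvd_cent S hx hxz hG hJ))
  haveI : Nontrivial (T : Subgroup ↥(CG x)) := Finite.one_lt_card_iff_nontrivial.1
    (lt_of_lt_of_le (by norm_num) (Nat.le_of_dvd Nat.card_pos h8))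
  haveI := T.2.center_nontrivial
  obtain ⟨c, hc⟩ := exists_prime_orderOf_dvd_card' (G := Subgroup.center (T : Subgroup ↥(CG x))) 2 (by
    obtain ⟨n, hn⟩ := IsPGroup.iff_card.1 (T.2.to_subgroup (Subgroup.center (T : Subgroup ↥(CG x))))
    have hnt : Nontrivial (Subgroup.center (T : Subgroup ↥(CG x))) := inferInstance
    have := Finite.one_lt_card_iff_nontrivial.2 hnt
    rw [hn] at this ⊢
    exact dvd_pow_self 2 fun e => by rw [e] at this; norm_num at this)
  set w : G := (((c : (T : Subgroup ↥(CG x))) : ↥(CG x)) : G)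
  have hwo : orderOf w = 2 := by rw [Subgroup.orderOf_coe, Subgroup.orderOf_coe, Subgroup.orderOf_coe, hc]
  have hcen : ∀ t : (T : Subgroup ↥(CG x)), Commute ((t : ↥(CG x)) : G) w := fun t =>
    congrArg (fun v : (T : Subgroup ↥(CG x)) => ((v : ↥(CG x)) : G)) (Subgroup.mem_center_iff.1 c.2 t)
  refine ⟨w, (hcen ⟨Z, hT (Subgroup.mem_zpowers Z)⟩).symm, mem_CG.1 ((c : (T : Subgroup ↥(CG x))) : ↥(CG x)).2,
    by rw [← pow_two, ← hwo, pow_orderOf_eq_one], fun e => by rw [e, orderOf_one] at hwo; norm_num at hwo, fun hz => ?_⟩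
  have h4 := card_le_four (A := (T : Subgroup ↥(CG x)).map (CG x).subtype) hx
    (mem_CG.1 ((c : (T : Subgroup ↥(CG x))) : ↥(CG x)).2) hz (T.2.map _) (by rintro _ ⟨t, ht, rfl⟩; exact hcen ⟨t, ht⟩)
    (by rintro _ ⟨t, ht, rfl⟩; exact mem_CG.1 t.2)
  rw [Subgroup.card_subtype] at h4
  have := Nat.le_of_dvd Nat.card_pos h8
  omega

omit hx hxz in
theorem card_le_orbit {K : Subgroup G} {u : G} (hu : u ∈ K) {X : Set G}
    (hX : ∀ g ∈ K, g * u * g⁻¹ ∈ X) :
    Nat.card K ≤ X.ncard * Nat.card ↥(Subgroup.centralizer ({u} : Set G) ⊓ K) := by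
  classical
  set C := Subgroup.centralizer ({u} : Set G) ⊓ K
  rw [← (C.subgroupOf K).card_mul_index, mul_comm X.ncard,
    Nat.card_congr (Subgroup.subgroupOfEquivOfLe (inf_le_right : C ≤ K)).toEquiv, Subgroup.index,
    ← Nat.card_coe_set_eq]
  refine Nat.mul_le_mul_left _ (Nat.card_le_card_of_injective
    (fun q => (⟨(q.out : G) * u * (q.out : G)⁻¹, hX _ q.out.2⟩ : X)) fun a b e => ?_)
  have e' : (a.out : G) * u * (a.out : G)⁻¹ = (b.out : G) * u * (b.out : G)⁻¹ := congrArg Subtype.val e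
  rw [← a.out_eq, ← b.out_eq]
  refine QuotientGroup.eq.2 (Subgroup.mem_subgroupOf.2 (Subgroup.mem_inf.2
    ⟨mem_centralizer_singleton_iff'.2 ?_, mul_mem (inv_mem a.out.2) b.out.2⟩))
  calc (a.out : G)⁻¹ * b.out * u = (a.out : G)⁻¹ * ((b.out : G) * u * (b.out : G)⁻¹) * b.out := by group
    _ = u * ((a.out : G)⁻¹ * b.out) := by rw [← e']; group

theorem card_cent (hG : ¬ IsMulCommutative G) (hJ : IsOfJankoFourTypeAt S.z) : Nat.card (CG x) = 840 := by
  classical
  obtain ⟨w, hwz, hwx, hw2, hw1, hw⟩ := exists_second S hx hxz hG hJ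
  set X : Set G := {u | Commute u x ∧ IsConj S.z u}
  set Y : Set G := {u | Commute u x ∧ u * u = 1 ∧ u ≠ 1 ∧ ¬ IsConj S.z u}
  have hz1 : S.z ≠ 1 := S.hE.z_ne_one
  have hinv : ∀ {u}, u ∈ X → u * u = 1 ∧ u ≠ 1 := by
    rintro u ⟨-, hu⟩
    obtain ⟨g, rfl⟩ := isConj_iff.1 hu
    exact ⟨by rw [conj_mul, S.hE.mul_self_z]; group, fun e => hz1 (conj_eq_one_iff.1 e)⟩
  have hXc : Nat.card (CG x) ≤ X.ncard * 84 := by
    refine (card_le_orbit (mem_CG.2 hxz.symm) (X := X) fun g hg =>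
      ⟨mem_CG.1 (mul_mem (mul_mem hg (mem_CG.2 hxz.symm)) (inv_mem hg)), isConj_iff.2 ⟨g, rfl⟩⟩).trans
      (Nat.mul_le_mul_left _ ?_)
    obtain ⟨h, hh, hC⟩ := S.exists_conj_C_seven hx hxz
    have hle : (Subgroup.centralizer ({S.z} : Set G) ⊓ CG x).map (MulAut.conj h).toMonoidHom ≤
        S.centH (h * x * h⁻¹) := by
      rintro _ ⟨g, hg, rfl⟩
      refine S.mem_centH.2 ⟨?_, (LargeData.commute_conj_iff' (g := h)).2 (mem_CG.1 hg.2)⟩
      have := (LargeData.commute_conj_iff' (g := h)).2 (S.mem_H.1 hg.1)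
      rwa [hh.eq, mul_inv_cancel_right] at this
    have := Subgroup.card_le_of_le hle
    rw [Subgroup.card_map_of_injective (MulAut.conj h).injective] at this
    rcases S.centH_card_seven (Setting.conj_seven hx) hC with e | e <;> omega
  have hYc : Nat.card (CG x) ≤ Y.ncard * 56 := by
    refine (card_le_orbit (mem_CG.2 hwx) (X := Y) fun g hg => ⟨mem_CG.1 (mul_mem (mul_mem hg (mem_CG.2 hwx))
      (inv_mem hg)), by rw [conj_mul, hw2]; group, fun e => hw1 (conj_eq_one_iff.1 e),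
      fun c => hw (c.trans (isConj_iff.2 ⟨g, rfl⟩).symm)⟩).trans (Nat.mul_le_mul_left _ ?_)
    exact card_cent_second hG hJ (orderOf_eq_prime (by rw [pow_two, hw2]) hw1) hw hx hwx.symm
  -- every pair has an involution commuting with both
  have hmid : ∀ p ∈ X ×ˢ Y, ∃ i ∈ X ∪ Y, p.1 ∈ side x i ∧ p.2 ∈ side x i := by
    rintro ⟨u, v⟩ ⟨hu, hv⟩
    obtain ⟨hu2, hu1⟩ := hinv hu
    obtain ⟨hvx, hv2, hv1, hvz⟩ := hv
    have hne : u ≠ v := fun e => hvz (e ▸ hu.2)
    obtain ⟨i, hiK, hi1, hui, hvi, g, -, hg⟩ := exists_mid (M := CG x) (mem_CG.2 hu.1) (mem_CG.2 hvx) hu2 hv2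
      (fun g _ e => hvz (hu.2.trans (isConj_iff.2 ⟨g, e⟩)))
    have hii : i * i = 1 := by
      have h : u * i * (u * i) = 1 := by
        rcases hg with e | e <;> rw [e, conj_mul]
        · rw [hu2]; group
        · rw [hv2]; group
      rwa [hui.symm.mul_mul_mul_comm, hu2, one_mul] at h
    obtain ⟨j, hj2, hj1, hju, hjv, huj, hvj, hjK⟩ : ∃ j, j * j = 1 ∧ j ≠ 1 ∧ j ≠ u ∧ j ≠ v ∧ Commute u j ∧
        Commute v j ∧ Commute j x := by
      by_cases h : i = u ∨ i = v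
      · have huv : Commute u v := by
          rcases h with e | e
          · exact (e ▸ hvi).symm
          · exact e ▸ hui
        refine ⟨u * v, by rw [huv.symm.mul_mul_mul_comm, hu2, hv2, one_mul], fun e => hne ?_,
          fun e => hv1 (mul_eq_left.1 e), fun e => hu1 (mul_eq_right.1 e),
          (Commute.refl u).mul_right huv, huv.symm.mul_right (Commute.refl v), hu.1.mul_left hvx⟩
        rw [← inv_eq_of_mul_eq_one_right e, inv_eq_of_mul_eq_one_right hu2]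
      · rw [not_or] at h
        exact ⟨i, hii, hi1, h.1, h.2, hui, hvi, mem_CG.1 hiK⟩
    refine ⟨j, ?_, ⟨huj, hu.1, hu2, hu1, fun e => hju e.symm⟩, ⟨hvj, hvx, hv2, hv1, fun e => hjv e.symm⟩⟩
    by_cases hjz : IsConj S.z j
    · exact Or.inl ⟨hjK, hjz⟩
    · exact Or.inr ⟨hjK, hj2, hj1, hjz⟩
  have hside : ∀ i ∈ X ∪ Y, (side x i).ncard ≤ 6 := by
    rintro i (⟨h1, h2⟩ | ⟨h1, h2, h3, h4⟩)
    exacts [side_z_le S hx h1 h2, side_t_le S hG hJ hx h1 h2 h3 h4]
  have hdisj : ∀ u, u ∈ X → u ∈ Y → False := fun u h1 h2 => h2.2.2.2 h1.2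
  have hfib : ∀ i ∈ X ∪ Y, ((side x i ∩ X) ×ˢ (side x i ∩ Y)).ncard ≤ 9 := by
    intro i hi
    have hab : (side x i ∩ X).ncard + (side x i ∩ Y).ncard ≤ 6 := by
      rw [← Set.ncard_union_eq (Set.disjoint_left.2 fun u h1 h2 => hdisj u h1.2 h2.2) (Set.toFinite _) (Set.toFinite _)]
      exact (Set.ncard_le_ncard (Set.union_subset Set.inter_subset_left Set.inter_subset_left) (Set.toFinite _)).trans
        (hside i hi)
    rw [Set.ncard_prod]
    nlinarith [sq_nonneg (((side x i ∩ X).ncard : ℤ) - (side x i ∩ Y).ncard)]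
  have hsum : X.ncard * Y.ncard ≤ 9 * (X.ncard + Y.ncard) := by
    have hsub : X ×ˢ Y ⊆ ⋃ i ∈ (X ∪ Y).toFinite.toFinset, (side x i ∩ X) ×ˢ (side x i ∩ Y) := by
      intro p hp
      obtain ⟨i, hi, h1, h2⟩ := hmid p hp
      exact Set.mem_biUnion (Finset.mem_coe.2 ((Set.Finite.mem_toFinset _).2 hi)) ⟨⟨h1, hp.1⟩, ⟨h2, hp.2⟩⟩
    have := (Set.ncard_le_ncard hsub (Set.toFinite _)).trans (Finset.set_ncard_biUnion_le _ _)
    rw [Set.ncard_prod] at this
    refine this.trans ((Finset.sum_le_card_nsmul _ _ 9 fun i hi => hfib i ((Set.Finite.mem_toFinset _).1 hi)).trans ?_)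
    rw [← Set.ncard_eq_toFinset_card, smul_eq_mul, mul_comm]
    exact Nat.mul_le_mul_left _ (Set.ncard_union_le _ _)
  obtain ⟨m, hm⟩ := dvd_cent S hx hxz hG hJ
  rcases lt_or_ge m 2 with hlt | hge
  · have : 0 < m := by
      rcases Nat.eq_zero_or_pos m with e | e
      · rw [e, mul_zero] at hm; exact absurd hm Nat.card_pos.ne'
      · exact e
    rw [hm, show m = 1 by omega]
  · exfalso
    obtain ⟨a, ha⟩ := Nat.exists_eq_add_of_le (show 20 ≤ X.ncard by omega)
    obtain ⟨b, hb⟩ := Nat.exists_eq_add_of_le (show 30 ≤ Y.ncard by omega)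
    rw [ha, hb] at hsum
    nlinarith

theorem exists_hom (hG : ¬ IsMulCommutative G) (hJ : IsOfJankoFourTypeAt S.z) :
    ∃ f : ↥(CG x) →* Equiv.Perm (Fin 5), Function.Surjective f ∧
      ∀ g, f g = 1 ↔ (g : G) ∈ Subgroup.zpowers x := by
  classical
  obtain ⟨M, f, hM, hf, hxM, hfx⟩ := symData_all S hG hJ hx hxz
  have hk : 7 ∣ Nat.card f.ker := by
    have := orderOf_dvd_natCard (⟨⟨x, hxM⟩, hfx⟩ : f.ker)
    rwa [← Subgroup.orderOf_coe, ← Subgroup.orderOf_coe, hx] at this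
  have h := f.ker.card_mul_index
  rw [Subgroup.index_ker, MonoidHom.range_eq_top.2 hf, Subgroup.card_top, Nat.card_perm, Nat.card_fin,
    show Nat.factorial 5 = 120 from rfl] at h
  have hle := Subgroup.card_le_of_le hM
  rw [card_cent S hx hxz hG hJ] at hle
  have hk7 : Nat.card f.ker = 7 := le_antisymm (by omega) (Nat.le_of_dvd Nat.card_pos hk)
  obtain rfl : M = CG x := Subgroup.eq_of_le_of_card_ge hM (by rw [card_cent S hx hxz hG hJ]; omega)
  refine ⟨f, hf, fun g => ⟨fun hg => ?_, ?_⟩⟩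
  · set X : ↥f.ker := ⟨⟨x, hxM⟩, hfx⟩
    have hX : Subgroup.zpowers X = ⊤ := Subgroup.eq_top_of_card_eq _ (by
      rw [Nat.card_zpowers, ← Subgroup.orderOf_coe, ← Subgroup.orderOf_coe, hk7]; exact hx)
    obtain ⟨n, hn⟩ : (⟨g, hg⟩ : ↥f.ker) ∈ Subgroup.zpowers X := hX ▸ Subgroup.mem_top _
    exact ⟨n, congrArg (fun v : ↥f.ker => ((v : ↥(CG x)) : G)) hn⟩
  · rintro ⟨n, hn⟩
    rw [show g = (⟨x, hxM⟩ : ↥(CG x)) ^ n from Subtype.ext (by rw [Subgroup.coe_zpow]; exact hn.symm), map_zpow, hfx,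
      one_zpow]

theorem not_sq_dvd (hG : ¬ IsMulCommutative G) (hJ : IsOfJankoFourTypeAt S.z) : ¬ 49 ∣ Nat.card G := by
  classical
  intro h49
  haveI : Fact (Nat.Prime 7) := ⟨by norm_num⟩
  obtain ⟨T, hT⟩ := (IsPGroup.of_card (n := 1) (by rw [Nat.card_zpowers, hx, pow_one]) :
    IsPGroup 7 (Subgroup.zpowers x)).exists_le_sylow
  have h2 : 49 ∣ Nat.card (T : Subgroup G) := T.pow_dvd_card_of_pow_dvd_card (n := 2) h49
  have hsmall : (T : Subgroup G) ⊓ CG x = Subgroup.zpowers x := by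
    refine (Subgroup.eq_of_le_of_card_ge
      (le_inf hT (Subgroup.zpowers_le.2 (mem_CG.2 (Commute.refl x)))) ?_).symm
    obtain ⟨n, hn⟩ := IsPGroup.iff_card.1 (T.2.to_le (inf_le_left : (T : Subgroup G) ⊓ CG x ≤ T))
    have hd := Subgroup.card_dvd_of_le (inf_le_right : (T : Subgroup G) ⊓ CG x ≤ CG x)
    rw [hn, card_cent S hx hxz hG hJ] at hd
    rw [hn, Nat.card_zpowers, hx]
    rcases n with _ | _ | n
    · norm_num
    · norm_num
    · exact absurd ((pow_dvd_pow 7 (by omega : 2 ≤ n + 1 + 1)).trans hd) (by norm_num)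
  haveI : Nontrivial (T : Subgroup G) := Finite.one_lt_card_iff_nontrivial.1
    (lt_of_lt_of_le (by norm_num) (Nat.le_of_dvd Nat.card_pos h2))
  haveI := T.2.center_nontrivial
  obtain ⟨c, hc⟩ := exists_ne (1 : Subgroup.center (T : Subgroup G))
  set w : G := ((c : (T : Subgroup G)) : G)
  have hw1 : w ≠ 1 := fun e => hc (Subtype.ext (Subtype.ext e))
  have hcen : ∀ t : (T : Subgroup G), Commute (t : G) w := fun t =>
    congrArg (fun v : (T : Subgroup G) => (v : G)) (Subgroup.mem_center_iff.1 c.2 t)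
  have hwx : w ∈ Subgroup.zpowers x := hsmall ▸ (⟨(c : (T : Subgroup G)).2,
    mem_CG.2 (hcen ⟨x, hT (Subgroup.mem_zpowers x)⟩).symm⟩ : w ∈ (T : Subgroup G) ⊓ CG x)
  have hxw : x ∈ Subgroup.zpowers w := by
    have := mem_zpowers_of_prime_card (G := Subgroup.zpowers x) (p := 7) (by rw [Nat.card_zpowers, hx])
      (g := ⟨w, hwx⟩) (g' := ⟨x, Subgroup.mem_zpowers x⟩) (fun e => hw1 (congrArg Subtype.val e))
    obtain ⟨n, hn⟩ := this
    exact ⟨n, congrArg Subtype.val hn⟩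
  have hTC : (T : Subgroup G) ⊓ CG x = (T : Subgroup G) := inf_eq_left.2 fun t ht => by
    obtain ⟨n, hn⟩ := hxw
    exact mem_CG.2 (hn ▸ (hcen ⟨t, ht⟩).zpow_right n)
  rw [hTC] at hsmall
  rw [hsmall, Nat.card_zpowers, hx] at h2
  norm_num at h2

theorem direct (hG : ¬ IsMulCommutative G) (hJ : IsOfJankoFourTypeAt S.z) :
    ∃ I : Subgroup G, Cfsg.IsInternalDirectProduct (Subgroup.zpowers x) I (CG x) ∧
      Nonempty (↥I ≃* Equiv.Perm (Fin 5)) := by
  classical
  obtain ⟨f, hf, hker⟩ := exists_hom S hx hxz hG hJ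
  have hk : Nat.card f.ker = 7 := by
    have h := f.ker.card_mul_index
    rw [Subgroup.index_ker, MonoidHom.range_eq_top.2 hf, Subgroup.card_top, Nat.card_perm, Nat.card_fin,
      show Nat.factorial 5 = 120 from rfl, card_cent S hx hxz hG hJ] at h
    omega
  have hidx : f.ker.index = 120 := by
    rw [Subgroup.index_ker, MonoidHom.range_eq_top.2 hf, Subgroup.card_top, Nat.card_perm, Nat.card_fin]; rfl
  obtain ⟨I0, hI0⟩ := Subgroup.exists_right_complement'_of_coprime (N := f.ker) (by rw [hk, hidx]; norm_num)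
  have hdis : f.ker ⊓ I0 = ⊥ := disjoint_iff.1 hI0.disjoint
  let φ := f.comp I0.subtype
  have hφ : Function.Bijective φ := by
    refine ⟨(injective_iff_map_eq_one _).2 fun i hi => ?_, fun s => ?_⟩
    · have h : (i : ↥(CG x)) ∈ f.ker ⊓ I0 := ⟨MonoidHom.mem_ker.2 hi, i.2⟩
      rw [hdis] at h
      exact Subtype.ext (Subgroup.mem_bot.1 h)
    · obtain ⟨g, rfl⟩ := hf s
      obtain ⟨⟨a, b⟩, hab⟩ := hI0.2 g
      refine ⟨b, ?_⟩
      show f (b : ↥(CG x)) = f g
      rw [← show (a : ↥(CG x)) * b = g from hab, map_mul, MonoidHom.mem_ker.1 a.2, one_mul]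
  refine ⟨I0.map (CG x).subtype, ⟨Subgroup.zpowers_le.2 (mem_CG.2 (Commute.refl x)), Subgroup.map_subtype_le _,
    ?_, ?_, ?_⟩, ⟨((I0.equivMapOfInjective _ (CG x).subtype_injective).symm.trans (MulEquiv.ofBijective φ hφ))⟩⟩
  · rintro _ ⟨n, rfl⟩ _ ⟨b, -, rfl⟩
    exact ((mem_CG.1 b.2).symm.zpow_left n).eq
  · rw [eq_bot_iff]
    rintro _ ⟨ha, ⟨b, hb, rfl⟩⟩
    have h : b ∈ f.ker ⊓ I0 := ⟨MonoidHom.mem_ker.2 ((hker b).2 ha), hb⟩
    rw [hdis] at h
    rw [Subgroup.mem_bot.1 h]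
    exact one_mem _
  · refine le_antisymm (sup_le (Subgroup.zpowers_le.2 (mem_CG.2 (Commute.refl x))) (Subgroup.map_subtype_le _))
      fun g hg => ?_
    obtain ⟨⟨a, b⟩, hab⟩ := hI0.2 ⟨g, hg⟩
    rw [show g = ((a : ↥(CG x)) : G) * ((b : ↥(CG x)) : G) from (congrArg Subtype.val hab).symm]
    exact mul_mem (Subgroup.mem_sup_left ((hker _).1 (MonoidHom.mem_ker.1 a.2)))
      (Subgroup.mem_sup_right ⟨b, b.2, rfl⟩)

theorem cent_inv_card {u : G} (hux : Commute u x) (hu : IsConj S.z u) :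
    Nat.card ↥(Subgroup.centralizer ({u} : Set G) ⊓ CG x) ∣ 84 := by
  obtain ⟨g, hg⟩ := isConj_iff.1 hu.symm
  have hx1 : orderOf (g * x * g⁻¹) = 7 := Setting.conj_seven hx
  obtain ⟨h, hh, hC⟩ := S.exists_conj_C_seven hx1 (hg ▸ (LargeData.commute_conj_iff' (g := g)).2 hux.symm)
  have hle : (Subgroup.centralizer ({u} : Set G) ⊓ CG x).map (MulAut.conj (h * g)).toMonoidHom ≤
      S.centH (h * (g * x * g⁻¹) * h⁻¹) := by
    rintro _ ⟨a, ha, rfl⟩
    refine S.mem_centH.2 ⟨?_, ?_⟩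
    · have := (LargeData.commute_conj_iff' (g := h * g)).2 (mem_centralizer_singleton_iff'.1 ha.1 : Commute a u)
      rwa [show h * g * u * (h * g)⁻¹ = h * (g * u * g⁻¹) * h⁻¹ by group, hg, hh.eq, mul_inv_cancel_right] at this
    · have := (LargeData.commute_conj_iff' (g := h * g)).2 (mem_CG.1 ha.2)
      rwa [show h * g * x * (h * g)⁻¹ = h * (g * x * g⁻¹) * h⁻¹ by group] at this
  have := Subgroup.card_dvd_of_le hle
  rw [Subgroup.card_map_of_injective (MulAut.conj (h * g)).injective] at this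
  rcases S.centH_card_seven (Setting.conj_seven hx1) hC with e | e <;> rw [e] at this
  exacts [this.trans (by norm_num), this]

/-- The conjugates of `z` centralizing `x` are conjugate in `C(x)`. -/
theorem z_conj_cent (hG : ¬ IsMulCommutative G) (hJ : IsOfJankoFourTypeAt S.z) {u : G} (hux : Commute u x)
    (hu : IsConj S.z u) : ∃ k, Commute k x ∧ k * S.z * k⁻¹ = u := by
  classical
  haveI : Fact (Nat.Prime 2) := ⟨Nat.prime_two⟩
  obtain ⟨f, hf, hker⟩ := exists_hom S hx hxz hG hJ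
  have hk : ∀ g : ↥(CG x), f g = 1 → g ^ 7 = 1 := fun g hg => by
    obtain ⟨n, hn⟩ := (hker g).1 hg
    have hn' : x ^ n = (g : G) := hn
    refine Subtype.ext ?_
    rw [Subgroup.coe_pow, ← hn', ← zpow_natCast, ← zpow_mul, mul_comm, zpow_mul, zpow_natCast, ← hx,
      pow_orderOf_eq_one, one_zpow]
    rfl
  have hk2 : ¬ 2 ∣ Nat.card f.ker := fun h => by
    obtain ⟨g, hg⟩ := exists_prime_orderOf_dvd_card' (G := f.ker) 2 h
    have := orderOf_dvd_of_pow_eq_one (hk _ (MonoidHom.mem_ker.1 g.2))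
    rw [Subgroup.orderOf_coe, hg] at this
    norm_num at this
  have key : ∀ {v : G} (hv : Commute v x), IsConj S.z v →
      ∃ c : Equiv.Perm (Fin 5), c * f ⟨v, mem_CG.2 hv⟩ * c⁻¹ = s2 := by
    intro v hv hvz
    set V : ↥(CG x) := ⟨v, mem_CG.2 hv⟩
    have hV : orderOf V = 2 := by
      obtain ⟨g, hg⟩ := isConj_iff.1 hvz
      rw [← Subgroup.orderOf_coe, show (V : G) = MulAut.conj g S.z from hg.symm, MulEquiv.orderOf_eq, S.orderOf_z]
    refine transposition_of_card _ (by rw [← map_mul, ← pow_two, ← hV, pow_orderOf_eq_one, map_one]) ?_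
    set F := Finset.univ.filter fun c : Equiv.Perm (Fin 5) => c * f V = f V * c
    set D := Subgroup.centralizer ({v} : Set G) ⊓ CG x
    let ψ : ↥D →* ↥(Subgroup.centralizer ({f V} : Set (Equiv.Perm (Fin 5)))) :=
      (f.comp (Subgroup.inclusion inf_le_right)).codRestrict _ fun d => Subgroup.mem_centralizer_singleton_iff.2
        ((show Commute (Subgroup.inclusion (inf_le_right : D ≤ CG x) d) V from
          Subtype.ext (mem_centralizer_singleton_iff'.1 d.2.1)).map f).eq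
    have hψ : Function.Surjective ψ := by
      rintro ⟨c, hc⟩
      obtain ⟨g, rfl⟩ := hf c
      obtain ⟨g', hg', hgc⟩ := exists_commute_lift f (q := 2) (r := V) hV hk2 g
        (Subgroup.mem_centralizer_singleton_iff.1 hc)
      exact ⟨⟨g', mem_centralizer_singleton_iff'.2 (congrArg Subtype.val hgc.eq), g'.2⟩, Subtype.ext hg'⟩
    have h7 : 7 ∣ Nat.card ψ.ker := by
      have hxD : x ∈ D := ⟨mem_centralizer_singleton_iff'.2 hv.symm.eq, mem_CG.2 (Commute.refl x)⟩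
      have := orderOf_dvd_natCard (⟨⟨x, hxD⟩, Subtype.ext ((hker ⟨x, hxD.2⟩).2 (Subgroup.mem_zpowers x))⟩ : ψ.ker)
      rwa [← Subgroup.orderOf_coe, ← Subgroup.orderOf_coe, hx] at this
    have h := ψ.ker.card_mul_index
    rw [Subgroup.index_ker, MonoidHom.range_eq_top.2 hψ, Subgroup.card_top] at h
    have h84 : 7 * Nat.card ↥(Subgroup.centralizer ({f V} : Set (Equiv.Perm (Fin 5)))) ∣ 7 * 12 :=
      (h ▸ mul_dvd_mul_right h7 _ : 7 * _ ∣ Nat.card ↥D).trans (cent_inv_card S hx hxz hv hvz)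
    have h12 := Nat.dvd_of_mul_dvd_mul_left (by norm_num) h84
    have hF : Nat.card ↥(Subgroup.centralizer ({f V} : Set (Equiv.Perm (Fin 5)))) = F.card := by
      rw [Nat.card_eq_fintype_card, ← Fintype.card_coe]
      exact Fintype.card_congr (Equiv.subtypeEquiv (Equiv.refl _) fun c => by
        rw [Subgroup.mem_centralizer_singleton_iff]; simp [F])
    rw [hF] at h12
    refine ⟨fun e => ?_, h12⟩
    have := hk V e
    have h2' : V ^ 1 = 1 := by
      rw [show 1 = Nat.gcd 7 2 from rfl]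
      exact pow_gcd_eq_one.2 ⟨this, hV ▸ pow_orderOf_eq_one V⟩
    rw [pow_one] at h2'
    rw [h2', orderOf_one] at hV
    norm_num at hV
  obtain ⟨c1, hc1⟩ := key hxz.symm (IsConj.refl _)
  obtain ⟨c2, hc2⟩ := key hux hu
  obtain ⟨k, hk'⟩ := hf (c2⁻¹ * c1)
  refine ⟨k, mem_CG.1 k.2, ?_⟩
  set v := (k : G) * S.z * (k : G)⁻¹
  have hvx : Commute v x := ((mem_CG.1 k.2).mul_left hxz.symm).mul_left (mem_CG.1 k.2).inv_left
  have hv2 : v * v = 1 := by show _ * _ = _; rw [conj_mul, S.hE.mul_self_z]; group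
  obtain ⟨g, hg⟩ := isConj_iff.1 hu
  have hu2 : u * u = 1 := by rw [← hg, conj_mul, S.hE.mul_self_z]; group
  have hfe : f ⟨u⁻¹ * v, mul_mem (inv_mem (mem_CG.2 hux)) (mem_CG.2 hvx)⟩ = 1 := by
    rw [show (⟨u⁻¹ * v, _⟩ : ↥(CG x)) = (⟨u, mem_CG.2 hux⟩)⁻¹ * (k * ⟨S.z, mem_CG.2 hxz.symm⟩ * k⁻¹) from rfl,
      map_mul, map_mul, map_mul, map_inv, map_inv, hk', show c2⁻¹ * c1 * f _ * (c2⁻¹ * c1)⁻¹ =
        c2⁻¹ * (c1 * f ⟨S.z, mem_CG.2 hxz.symm⟩ * c1⁻¹) * c2 by group, hc1, ← hc2]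
    group
  obtain ⟨n, hn⟩ := (hker _).1 hfe
  have hn' : x ^ n = u⁻¹ * v := hn
  have hv : v = u * x ^ n := by rw [hn', mul_inv_cancel_left]
  have hcn : Commute u (x ^ n) := hux.zpow_right n
  rw [hv, hcn.symm.mul_mul_mul_comm, hu2, one_mul] at hv2
  have hxn : x ^ n = 1 := by
    have h2 : (x ^ n) ^ 2 = 1 := by rw [pow_two]; exact hv2
    have h7 : (x ^ n) ^ 7 = 1 := by
      rw [← zpow_natCast, ← zpow_mul, mul_comm, zpow_mul, zpow_natCast, ← hx, pow_orderOf_eq_one, one_zpow]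
    have := pow_gcd_eq_one.2 (And.intro h2 h7)
    rwa [show Nat.gcd 2 7 = 1 from rfl, pow_one] at this
  rw [hv, hxn, mul_one]

theorem normalizer_card (hG : ¬ IsMulCommutative G) (hJ : IsOfJankoFourTypeAt S.z) :
    Nat.card (Subgroup.normalizer (Subgroup.zpowers x : Set G)) = 3 * 840 := by
  classical
  haveI : Fact (Nat.Prime 7) := ⟨by norm_num⟩
  obtain ⟨h, hh, hC⟩ := S.exists_conj_C_seven hx hxz
  obtain ⟨c, hcz, hc⟩ := S.exists_square_seven (Setting.conj_seven (h := h) hx) hC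
  have hsq : h⁻¹ * c * h * x * (h⁻¹ * c * h)⁻¹ = x ^ 2 := by
    calc h⁻¹ * c * h * x * (h⁻¹ * c * h)⁻¹ = h⁻¹ * (c * (h * x * h⁻¹) * c⁻¹) * h := by group
      _ = x ^ 2 := by rw [hc, conj_pow]; group
  obtain ⟨k, hk6, hk3, hN⟩ := M22.normalizer_split (Or.inr rfl) hx hsq
  rw [hN, show Nat.card (Subgroup.centralizer ({x} : Set G)) = 840 from card_cent S hx hxz hG hJ]
  suffices k ≠ 6 by
    have := Nat.le_of_dvd (by norm_num) hk6
    interval_cases k <;> simp_all
  intro hk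
  set N := Subgroup.normalizer (Subgroup.zpowers x : Set G)
  set P := Subgroup.zpowers x
  let φ := Subgroup.normalizerMonoidHom P
  have hcyc : IsCyclic P := isCyclic_of_prime_card (p := 7) (by rw [Nat.card_zpowers, hx])
  have hA : Nat.card (MulAut P) = 6 := by
    rw [IsCyclic.card_mulAut, Nat.card_zpowers, hx, Nat.totient_prime (by norm_num)]
  have hcen : Subgroup.centralizer (P : Set G) = CG x := by
    show Subgroup.centralizer (Subgroup.zpowers x : Set G) = _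
    rw [CG, Subgroup.zpowers_eq_closure, Subgroup.centralizer_closure]
  have hCN : Subgroup.centralizer (P : Set G) ≤ N := by
    intro g hg
    refine Subgroup.mem_normalizer_iff.2 fun a => ⟨fun ha => ?_, fun ha => ?_⟩
    · rwa [← Subgroup.mem_centralizer_iff.1 hg a ha, mul_inv_cancel_right]
    · have h1 := Subgroup.mem_centralizer_iff.1 hg _ ha
      rw [inv_mul_cancel_right, mul_left_cancel_iff] at h1
      rwa [← h1] at ha
  have hr : φ.range = ⊤ := by
    refine Subgroup.eq_top_of_card_eq _ ?_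
    have h1 := φ.ker.card_mul_index
    rw [Subgroup.index_ker, Subgroup.normalizerMonoidHom_ker,
      Nat.card_congr (Subgroup.subgroupOfEquivOfLe hCN).toEquiv, hcen,
      card_cent S hx hxz hG hJ] at h1
    rw [hN, hk, show Nat.card (Subgroup.centralizer ({x} : Set G)) = 840 from card_cent S hx hxz hG hJ] at h1
    rw [hA]
    omega
  haveI : IsMulCommutative P := IsCyclic.isMulCommutative
  let iv : MulAut P := MulEquiv.ofBijective (MonoidHom.mk' (fun a : P => a⁻¹) fun a b => by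
    rw [mul_inv_rev]; exact mul_comm' _ _) inv_involutive.bijective
  obtain ⟨n, hn⟩ : iv ∈ φ.range := hr ▸ Subgroup.mem_top _
  have hinv : (n : G) * x * (n : G)⁻¹ = x⁻¹ :=
    congrArg (fun g : MulAut P => ((g ⟨x, Subgroup.mem_zpowers x⟩ : P) : G)) hn
  set u := (n : G) * S.z * (n : G)⁻¹
  have hux : Commute u x := by
    have := (LargeData.commute_conj_iff' (g := (n : G))).2 hxz.symm
    rw [hinv] at this
    simpa using this.inv_right
  obtain ⟨q, hqx, hq⟩ := z_conj_cent S hx hxz hG hJ hux (isConj_iff.2 ⟨_, rfl⟩)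
  set m := q⁻¹ * (n : G)
  have hmz : Commute m S.z := mul_inv_eq_iff_eq_mul.1 (by
    rw [show m * S.z * m⁻¹ = q⁻¹ * u * q by simp only [m, u]; group, ← hq]; group)
  have hmx : m * x * m⁻¹ = x⁻¹ := by
    rw [show m * x * m⁻¹ = q⁻¹ * ((n : G) * x * (n : G)⁻¹) * q by simp only [m]; group, hinv,
      hqx.inv_left.inv_right.eq, inv_mul_cancel_right]
  obtain ⟨w, hwz, hwx, hw2, hw1, hw⟩ := exists_second S hx hxz hG hJ
  have hzh : h * S.z * h⁻¹ = S.z := by rw [hh.eq, mul_inv_cancel_right]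
  refine S.not_inverted_seven (u := h * w * h⁻¹) (Setting.conj_seven (h := h) hx) hC ?_ ?_ ?_ ?_ ?_
    (h := h * m * h⁻¹) ((hh.mul_left hmz).mul_left hh.inv_left) ?_
  · have := (LargeData.commute_conj_iff' (g := h)).2 hwz
    rwa [hzh] at this
  · exact (LargeData.commute_conj_iff' (g := h)).2 hwx
  · rw [conj_mul, hw2]; group
  · exact fun e => hw1 (conj_eq_one_iff.1 e)
  · exact fun e => hw (isConj_iff.2 ⟨h⁻¹, by rw [← e]; group⟩)
  · calc h * m * h⁻¹ * (h * x * h⁻¹) * (h * m * h⁻¹)⁻¹ = h * (m * x * m⁻¹) * h⁻¹ := by group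
      _ = _ := by rw [hmx]; group

end CfsgLib.JankoFour.Seven
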